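import Cfsg.Agent.Lib.D6.SpA

/-!
# The alternating case: fusion
-/

set_option autoImplicit false
set_option synthInstance.maxSize 8000
set_option maxRecDepth 100000

namespace Cfsg.Lib.D6
open Equiv Subgroup Cfsg.Lib.PC Cfsg.Lib.FT Cfsg.Lib.GW

attribute [local irreducible] av nn rr ee L ty lab R cm

variable {G : Type*} [Group G] {ψ : Wg →* G}

/-- the action of a 3-cycle on the last block -/
def X3 : Fin 64 → Fin 64 := lin 1 2 4 8 48 16

/-- the alternating case -/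
structure HB (ψ : Wg →* G) : Prop extends Hyp ψ where
  act : ∃ g, Act ψ g X3

/-- `x` is the 3-cycle `(10, 11, 8)`, and `y` is trivial or the 3-cycle `(10, 11, ∞)` -/
structure XD (ψ : Wg →* G) (x y : G) : Prop where
  x3 : x ^ 3 = 1
  xU : ∀ p q : Fin 12, p.1 < 8 → q.1 < 8 → Commute x (ψ (rr p q))
  xt : x * ψ (av 16) * x⁻¹ = ψ (av 48)
  xp : x * ψ (av 32) * x⁻¹ = ψ (av 16)
  xe : x * ψ (ee 6 8) * x * ψ (ee 6 8) = ψ (av 32)
  y3 : y ^ 3 = 1
  yU : ∀ p q : Fin 12, p.1 < 8 → q.1 < 8 → Commute y (ψ (rr p q))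
  ye : Commute y (ψ (ee 6 8))
  yt : ψ (av 16) * y * ψ (av 16) = y⁻¹
  xy : y ≠ 1 → (x * y) ^ 2 = 1
  fac : ∀ c, Commute (ψ (av 5)) c → ∃ h ∈ closure {x, y, ψ (av 16), ψ (av 32)}, Commute (ψ (av 16)) (h⁻¹ * c)

theorem Hyp.hb (H : Hyp ψ) {g : G} (h : Act ψ g (Fb 2)) : HB ψ :=
  ⟨H, g * ψ (nn 3) * (g * ψ (nn 3)), ((h.mul (act_nn 3)).mul (h.mul (act_nn 3))).congr (by decide +kernel)⟩

/-- representatives by weight -/
def rw3 (c : Fin 64) : Fin 64 := [21, 5, 16, 0].getD (n1 (av c) / 4) 0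

theorem wt_conj {M : Subgroup G} (h1 : ∀ w, ψ w ∈ M) {g : G} (h2 : g ∈ M) (hg : Act ψ g X3) (c : Fin 64) :
    ∃ n ∈ M, n * ψ (av c) * n⁻¹ = ψ (av (rw3 c)) := by
  let r : Fin 64 → Fin 64 → Prop := fun c d => ∃ n ∈ M, n * ψ (av c) * n⁻¹ = ψ (av d)
  have t1 : ∀ c d e, r c d → r d e → r c e := by
    rintro c d e ⟨n, hn, a⟩ ⟨m, hm, b⟩
    exact ⟨m * n, mul_mem hm hn, by rw [← b, ← a]; group⟩
  have t2 : ∀ j c, r c (L j c) := fun j c => ⟨_, h1 _, act_nn j c⟩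
  have t3 : ∀ c, r c (X3 c) := fun c => ⟨g, h2, hg c⟩
  let f : Fin 64 → Fin 64 := fun c => L 12 (if c.1 < 32 then c else if c.1 < 48 then X3 c else X3 (X3 c))
  have t4 : ∀ c, r c (f c) := fun c => t1 _ _ _ (by
    split_ifs
    exacts [⟨1, one_mem _, by simp⟩, t3 c, t1 _ _ _ (t3 c) (t3 _)]) (t2 12 _)
  have k : ∀ c, ∃ j, L j (f (f (f c))) = rw3 c := by decide +kernel
  obtain ⟨j, e⟩ := k c
  exact e ▸ t1 _ _ _ (t1 _ _ _ (t1 _ _ _ (t4 c) (t4 _)) (t4 _)) (t2 j _)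

/-- each involution of `W` is conjugate to one of the three representatives -/
theorem inv_conj {M : Subgroup G} (h1 : ∀ w, ψ w ∈ M) {g : G} (h2 : g ∈ M) (hg : Act ψ g X3) {w : Wg}
    (hw : w * w = 1) : ∃ n ∈ M, n * ψ w * n⁻¹ = ψ (av ([21, 5, 16, 0].getD (n1 w / 4) 0)) ∧ n1 w ∈ [0, 4, 8, 12] := by
  obtain ⟨k, c, rfl⟩ := inv_A hw
  obtain ⟨n, hn, e⟩ := wt_conj h1 h2 hg c
  have k1 : ∀ c, n1 (av c) ∈ [0, 4, 8, 12] := by decide +kernel
  rw [n1_conj]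
  exact ⟨n * (ψ k)⁻¹, mul_mem hn (inv_mem (h1 k)), by rw [← rw3, ← e, map_mul, map_mul, map_inv]; group, k1 c⟩

namespace HB
variable (H : HB ψ) [Finite G]
include H

/-- conjugacy of involutions of `W` is decided by the number of fixed points -/
theorem conj_iff {v w : Wg} (hv : v * v = 1) (hw : w * w = 1) : IsConj (ψ v) (ψ w) ↔ n1 v = n1 w := by
  obtain ⟨g, hg⟩ := H.act
  obtain ⟨n, -, a, b⟩ := inv_conj (M := ⊤) (fun _ => trivial) trivial hg hv
  obtain ⟨m, -, c, d⟩ := inv_conj (M := ⊤) (fun _ => trivial) trivial hg hw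
  have h1 := isConj_iff.2 ⟨n, a⟩
  have h2 := isConj_iff.2 ⟨m, c⟩
  refine ⟨fun h => ?_, fun h => h1.trans (h ▸ h2.symm)⟩
  have h3 := (h1.symm.trans h).trans h2
  have h4 : ∀ c, IsConj (ψ (av c)) (ψ (av 0)) → c = 0 := fun c h => by
    by_contra h0
    rw [av_zero, map_one, isConj_one_left] at h
    exact H.a_ne h0 h
  simp only [List.mem_cons, List.not_mem_nil, or_false] at b d
  rcases b with b | b | b | b <;> rcases d with d | d | d | d <;> rw [b, d] at h3 ⊢ <;>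
    first | exact absurd (H.not_conj (by decide) (by decide) h3) (by decide) | exact absurd (h4 _ h3) (by decide) |
      exact absurd (h4 _ h3.symm) (by decide)

theorem n1_eq {v w : Wg} (hv : v * v = 1) (h : IsConj (ψ v) (ψ w)) : n1 w = n1 v :=
  ((H.conj_iff hv (H.inj (by rw [map_mul, conj_sq h (by rw [← map_mul, hv, map_one]), map_one]))).1 h).symm

theorem h37 : IsConj (ψ (av 21)) (ψ (av 37)) := (H.conj_iff (av_sq _) (av_sq _)).2 (by decide +kernel)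

end HB

/-- the involutions with eight fixed points -/
theorem n1_eight {w : Wg} (hw : w * w = 1) (h : n1 w = 8) :
    (∃ i, w = R i) ∨ ∃ p q : Fin 6, w = ee (db p) (db q) := by
  obtain ⟨k, c, rfl⟩ := inv_A hw
  rw [n1_conj] at h
  have k1 : ∀ c, n1 (av c) = 8 → ∃ j, c = L j 48 ∨ c = L j 16 := by decide +kernel
  obtain ⟨j, rfl | rfl⟩ := k1 c h
  · obtain ⟨i, hi⟩ := conj_R (k * nn j)
    exact Or.inl ⟨i, by rw [← hi, ← nn_av, show av 48 = rr 8 11 by decide +kernel]; group⟩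
  · have k2 : ∀ p q, ee p q = ee (db (hf p)) (db (hf q)) := by decide +kernel
    exact Or.inr ⟨hf ((k * nn j).1 8), hf ((k * nn j).1 10), by
      rw [← k2, ← conj_ee, ← nn_av, show av 16 = ee 8 10 by decide +kernel]; group⟩

end Cfsg.Lib.D6
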