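import Cfsg.Agent.Lib.D6.AltA
import Cfsg.Agent.Lib.D6.Five

/-!
# The alternating case: the centralizer of `w`
-/

set_option autoImplicit false
set_option synthInstance.maxSize 8000
set_option maxRecDepth 100000

namespace Cfsg.Lib.D6
open Equiv Subgroup Cfsg.Lib.PC Cfsg.Lib.FT Cfsg.Lib.GW

attribute [local irreducible] av nn rr ee L ty lab R cm

variable {G : Type*} [Group G] {ψ : Wg →* G}

theorem Act.pow {g : G} {f : Fin 64 → Fin 64} (h : Act ψ g f) (n : ℕ) : Act ψ (g ^ n) f^[n] := by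
  induction n with
  | zero => exact fun c => by simp
  | succ n ih => exact pow_succ g n ▸ ih.mul h

theorem Act.cube {x : G} (h : Act ψ x X3) (x3 : x ^ 3 = 1) (c : Fin 64) :
    (ψ (av c) * x) ^ 3 = ψ (av (c ^^^ X3 c ^^^ X3 (X3 c))) := by
  rw [← a_mul, ← a_mul, ← h (X3 c), ← h c, ← mul_one (_ * (x * _ * x⁻¹)), ← x3]
  simp only [pow_succ, pow_zero]; group

theorem Hyp.cent2 (H : Hyp ψ) {g : G} (h1 : Commute (ψ (av 5)) g) (h2 : Commute (ψ (av 16)) g) : ∃ w, ψ w = g :=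
  H.cent g (by rw [show (21 : Fin 64) = 5 ^^^ 16 by decide, ← a_mul]; exact (h1.mul_left h2).symm)

theorem Hyp.centA (H : Hyp ψ) {g : G} (h : Act ψ g id) : ∃ c, g = ψ (av c) := by
  obtain ⟨w, rfl⟩ := H.cent g (mul_inv_eq_iff_eq_mul.1 (h 21))
  obtain ⟨c, rfl⟩ := cent_A' (x := w) fun c => H.inj (by rw [map_mul, map_mul, mul_inv_eq_iff_eq_mul.1 (h c)]; rfl)
  exact ⟨c, rfl⟩

theorem rr_sq : ∀ p q, rr p q * rr p q = 1 := by decide +kernel

namespace HB
variable (H : HB ψ) [Finite G]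
include H

theorem sq_cent {g : G} (hg : Act ψ g X3) (a b : Fin 12) (ha : a.1 < 8) (hb : b.1 < 8) :
    Commute (g ^ 2) (ψ (rr a b)) := by
  have k0 : ∀ c : Fin 64, c.1 < 16 → X3 c = c := by decide +kernel
  have h0 : ∀ c : Fin 64, c.1 < 16 → g * ψ (av c) * g⁻¹ = ψ (av c) := fun c hc => (hg c).trans (by rw [k0 c hc])
  have k1 : ∀ a b : Fin 12, a.1 < 8 → b.1 < 8 → (∃ c : Fin 64, c.1 < 16 ∧ rr a b = av c) ∨ n1 (rr a b) = 8 ∧
      (∀ c ∈ ([5, 32, 48] : List (Fin 64)), rr a b * av c = av c * rr a b) ∧ rr a b * av 1 ≠ av 1 * rr a b ∧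
      ∀ i, R i * av 16 = av 16 * R i → R i * av 32 = av 32 * R i → R i * av 1 ≠ av 1 * R i →
      ∃ c : Fin 64, c.1 < 16 ∧ R i = av c * rr a b * av c := by decide +kernel
  rcases k1 a b ha hb with ⟨c, hc, e⟩ | ⟨e1, e2, e3, e4⟩
  · exact e ▸ (Commute.pow_left (mul_inv_eq_iff_eq_mul.1 (h0 c hc)) 2)
  have h1 : ∀ c ∈ ([5, 32, 48] : List (Fin 64)), Commute (ψ (av (X3 c))) (g * ψ (rr a b) * g⁻¹) := fun c hc =>
    hg c ▸ cc.2 (Commute.map (e2 c hc).symm ψ)
  obtain ⟨w, hw⟩ := H.cent2 (h1 5 (by decide)) (h1 32 (by decide))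
  have h2 : IsConj (ψ (rr a b)) (ψ w) := isConj_iff.2 ⟨g, hw.symm⟩
  have h3 : w * av 1 ≠ av 1 * w := fun e => e3 (H.inj (by
    have := Commute.map e ψ
    rw [hw, ← h0 1 (by decide), cc] at this
    rw [map_mul, map_mul, this]))
  have h4 : ∀ c ∈ ([5, 32, 48] : List (Fin 64)), w * av (X3 c) = av (X3 c) * w := fun c hc =>
    H.inj (by rw [map_mul, map_mul, hw, h1 c hc])
  rcases n1_eight (H.inj (by rw [map_mul, conj_sq h2 (by rw [← map_mul, rr_sq, map_one]), map_one]))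
    ((H.n1_eq (rr_sq _ _) h2).trans e1) with ⟨i, rfl⟩ | ⟨p, q, rfl⟩
  · obtain ⟨c, hc, e⟩ := e4 i (h4 32 (by decide)) (h4 48 (by decide)) h3
    rw [e, map_mul, map_mul] at hw
    refine mul_inv_eq_iff_eq_mul.1 ?_
    calc _ = g * (g * ψ (rr a b) * g⁻¹) * g⁻¹ := by rw [sq]; group
      _ = g * ψ (av c) * g⁻¹ * (g * ψ (rr a b) * g⁻¹) * (g * ψ (av c) * g⁻¹) := by
        conv_lhs => rw [← hw]
        conv_rhs => rw [conj_mul, conj_mul]
      _ = _ := by rw [h0 c hc, ← hw]; simp only [← mul_assoc, mul_assoc _ (ψ (av c)) (ψ (av c)), a_sq, one_mul, mul_one]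
  · exact absurd (by clear * -; revert p q; decide +kernel) h3

theorem exists_x : ∃ x, x ^ 3 = 1 ∧ Act ψ x X3 ∧ (∀ p q : Fin 12, p.1 < 8 → q.1 < 8 → Commute x (ψ (rr p q))) ∧
    x * ψ (ee 6 8) * x * ψ (ee 6 8) = ψ (av 32) := by
  obtain ⟨g, hg⟩ := H.act
  obtain ⟨c, hc⟩ := H.centA ((hg.pow 3).congr (g := id) (by decide +kernel))
  have h1 : Act ψ (g ^ 4) X3 := (hg.pow 4).congr (by decide +kernel)
  have h2 : (g ^ 4) ^ 3 = 1 := by
    rw [← pow_mul, show 4 * 3 = 3 * 2 * 2 from rfl, pow_mul, pow_mul, hc, sq (ψ _), a_sq, one_pow]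
  have h3 : ∀ p q : Fin 12, p.1 < 8 → q.1 < 8 → Commute (g ^ 4) (ψ (rr p q)) := fun p q hp hq => by
    simpa only [← pow_mul] using (H.sq_cent hg p q hp hq).pow_left 2
  generalize g ^ 4 = x at h1 h2 h3
  have h4 : Act ψ (ψ (ee 6 8)) (L 3) := by
    rw [show ee 6 8 = av 4 * nn 3 by decide +kernel]; exact act_s 4 3
  have e2 : ψ (ee 6 8) * ψ (ee 6 8) = 1 := by rw [← map_mul, show ee 6 8 * ee 6 8 = 1 by decide +kernel, map_one]
  obtain ⟨d, hd⟩ := H.centA (((h1.mul h4).mul (h1.mul h4)).congr (g := id) (by decide +kernel))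
  have h5 : X3 (L 3 d) = d := H.ainj (by rw [← h1.mul h4 d, ← hd]; group)
  have h6 : av d * rr 0 4 = rr 0 4 * av d := H.inj (by
    rw [map_mul, map_mul, ← hd]
    have h7 : Commute (x * ψ (ee 6 8)) (ψ (rr 0 4)) :=
      (h3 0 4 (by decide) (by decide)).mul_left (Commute.map (by decide +kernel : _ = _) ψ)
    exact h7.mul_left h7)
  have h7 := h1.cube h2 d
  have h8 : ψ (av d) * x = ψ (ee 6 8) * x⁻¹ * (ψ (ee 6 8))⁻¹ := by
    rw [← a_inv, ← hd, inv_eq_of_mul_eq_one_right e2]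
    simp only [mul_inv_rev, inv_eq_of_mul_eq_one_right e2]; group
  rw [h8, conj_pow, inv_pow, h2, inv_one, mul_one, mul_inv_cancel, ← map_one ψ, ← av_zero] at h7
  have k : ∀ d, X3 (L 3 d) = d → av d * rr 0 4 = rr 0 4 * av d → 0 = d ^^^ X3 d ^^^ X3 (X3 d) → d = 0 ∨ d = 32 := by
    decide +kernel
  rcases k d h5 h6 (H.ainj h7) with rfl | rfl
  · refine ⟨ψ (av 16) * x, by rw [h1.cube h2, ← map_one ψ, ← av_zero]; rfl, fun c => ?_, fun p q hp hq =>
      (Commute.map (show _ = _ by revert p q; decide +kernel) ψ).mul_left (h3 p q hp hq), ?_⟩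
    · rw [← mul_inv_cancel_right (ψ (av (X3 c))) (ψ (av 16)), a_comm, ← h1]; group
    · rw [show (32 : Fin 64) = 16 ^^^ X3 (L 3 16) ^^^ 0 by decide +kernel, ← a_mul, ← a_mul, ← h1.mul h4 16, ← hd]
      group
  · exact ⟨x, h2, h1, h3, by rw [← hd]; group⟩

theorem exists_xd : ∃ x y, XD ψ x y := by
  obtain ⟨x, x3, hx, xU, xe⟩ := H.exists_x
  let a : Fin 64 → C1[ψ (av 5)] := fun c => ⟨ψ (av c), mem_c1.2 (a_comm _ _)⟩
  let x' : C1[ψ (av 5)] := ⟨x, mem_c1.2 (mul_inv_eq_iff_eq_mul.1 (hx 5))⟩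
  let e : C1[ψ (av 5)] := ⟨ψ (ee 6 8), mem_c1.2 (Commute.map (by decide +kernel : _ = _) ψ)⟩
  have am : ∀ c d, a c * a d = a (c ^^^ d) := fun c d => Subtype.ext (a_mul c d)
  have ao : ∀ c, c ≠ 0 → orderOf (a c) = 2 := fun c hc => (orderOf_coe _).symm.trans (H.a_ord hc)
  have hf : Four (a 16) (a 32) := ⟨ao _ (by decide), ao _ (by decide),
    fun e => absurd (H.ainj (congrArg Subtype.val e)) (by decide), Subtype.ext (a_comm _ _)⟩
  have hV : ∀ c, a c ∈ four (a 16) (a 32) ↔ c ∈ [0, 16, 32, 48] := fun c => by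
    rw [hf.mem_four, am, show (1 : C1[ψ (av 5)]) = a 0 from Subtype.ext (by simp [a, av_zero])]
    simp only [a, Subtype.mk.injEq, H.inj.eq_iff, av_inj.eq_iff, List.mem_cons, List.not_mem_nil, or_false]
    rfl
  have hC : ∀ d, IsConj (a 16) d → Commute (a 16) d → d ∈ four (a 16) (a 32) := fun d h1 h2 => by
    obtain ⟨w, hw⟩ := H.cent2 (mem_c1.1 d.2).symm (congrArg Subtype.val h2 :)
    obtain ⟨k, rfl⟩ := isConj_iff.1 h1
    have h3 : IsConj (ψ (av 16)) (ψ w) := isConj_iff.2 ⟨k, hw.symm⟩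
    have h4 := H.n1_eq (v := av 21) (w := av 5 * w) (av_sq _) (isConj_iff.2 ⟨k, by
      rw [map_mul, hw, show (21 : Fin 64) = 5 ^^^ 16 by decide, ← a_mul, ← mul_assoc, mem_c1.1 k.2]
      simp [a, mul_assoc]⟩)
    have k1 : (∀ i, n1 (av 5 * R i) = n1 (av 21) → ∃ c ∈ ([0, 16, 32, 48] : List (Fin 64)), R i = av c) ∧
      ∀ p q, n1 (av 5 * ee (db p) (db q)) = n1 (av 21) →
      ∃ c ∈ ([0, 16, 32, 48] : List (Fin 64)), ee (db p) (db q) = av c := by decide +kernel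
    obtain ⟨c, hc, rfl⟩ : ∃ c ∈ ([0, 16, 32, 48] : List (Fin 64)), w = av c := by
      rcases n1_eight (H.inj (by rw [map_mul, conj_sq h3 (a_sq _), map_one]))
        ((H.n1_eq (av_sq _) h3).trans (by decide +kernel)) with ⟨i, rfl⟩ | ⟨p, q, rfl⟩
      exacts [k1.1 i h4, k1.2 p q h4]
    exact (show a c = _ from Subtype.ext hw) ▸ (hV c).2 hc
  have hn : (closure {d | IsConj (a 16) d}).Normal := ⟨fun k hk g =>
    (closure_le ((closure {d | IsConj (a 16) d}).comap (MulAut.conj g).toMonoidHom)).2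
    (fun d hd => subset_closure (hd.trans (isConj_iff.2 ⟨g, rfl⟩))) hk⟩
  obtain ⟨x, y, b1, b2, b3, b4, b5, b6, b7, b8, b9, b10⟩ := five' (x := x') (e := e) hf
    (am _ _ ▸ Subtype.ext (hx 16)) (Subtype.ext (hx 32)) hC (by
      have := H.odd_bot H.h37 (O := O[closure {d | IsConj (a 16) d}].map (Subgroup.subtype _))
        (by rw [card_map_of_injective (subtype_injective _)]; exact odd_oc _) fun c => le_normalizer_map _
          ⟨a c, normalizer_le_normalizer_piCoreOf _ _ (le_normalizer_of_normal (mem_top _)), rfl⟩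
      rwa [map_eq_bot_iff_of_injective _ (subtype_injective _), piCoreOf_compl_singleton,
        map_eq_bot_iff_of_injective _ (subtype_injective _)] at this) (fun hp => by
      obtain ⟨S, hS⟩ := (H.sylS.mono (L := C1[ψ (av 5)]) (by
        rintro _ ⟨_, ⟨c, j, hj, rfl⟩, rfl⟩
        have k : ∀ j : Fin 24, j.1 < 8 → L j 5 = 5 := by decide +kernel
        exact mem_c1.2 (mul_inv_eq_iff_eq_mul.1 ((act_s c j 5).trans (by rw [k j hj])))) le_top).exists_sylow'
      have h1 := (IsSylowIn.of_sylow_top S).inf_of_le_normalizer (N := closure {d | IsConj (a 16) d}) le_top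
        le_normalizer_of_normal
      have h2 : ∀ c, a c ∈ closure {d | IsConj (a 16) d} → a c ∈ four (a 16) (a 32) := fun c hc => by
        by_cases h : c = 0
        exacts [(hV c).2 (by simp [h]), hC _ (hp _ hc (ao c h)) (Subtype.ext (a_comm _ _))]
      convert h1
      refine le_antisymm (four_le_iff.2 ⟨⟨hS ▸ ⟨_, av_mem_Sw _, rfl⟩, subset_closure (IsConj.refl _)⟩,
        hS ▸ ⟨_, av_mem_Sw _, rfl⟩, subset_closure (isConj_iff.2 ⟨x', Subtype.ext (hx 32)⟩).symm⟩) ?_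
      rintro b ⟨h3, h4⟩
      obtain ⟨_, ⟨c, j, hj, rfl⟩, h5⟩ : b.1 ∈ Sw.map ψ := hS.le h3
      have h6 : ∀ d, d ^^^ L j d ∈ [0, 16, 32, 48] := fun d => (hV _).1 (h2 _ (by
        convert mul_mem (hn.conj_mem _ h4 (a d)) (inv_mem h4) using 1
        refine Subtype.ext ?_
        simp only [a, coe_mul, coe_inv, ← h5, ← a_mul, ← act_s c j d, a_inv]
        group))
      have k : ∀ j : Fin 24, j.1 < 8 → 2 ^^^ L j 2 ∈ [0, 16, 32, 48] → 8 ^^^ L j 8 ∈ [0, 16, 32, 48] → j = 0 := by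
        decide +kernel
      rw [k j hj (h6 _) (h6 _), nn_zero, mul_one] at h5
      obtain rfl : a c = b := Subtype.ext h5
      exact h2 c h4)
    (Subtype.ext x3) (Subtype.ext xe) (Subtype.ext ((map_mul ψ _ _).symm.trans
      ((congrArg ψ (by decide +kernel)).trans ψ.map_one))) (Subtype.ext (Commute.map (by decide +kernel : _ = _) ψ))
    (Subtype.ext (by simp only [a, e, coe_mul, ← map_mul]; exact congrArg ψ (by decide +kernel)))
  have k : ∀ p q : Fin 12, p.1 < 8 → q.1 < 8 → ∀ c ∈ ([5, 16, 32] : List (Fin 64)), av c * rr p q = rr p q * av c := by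
    decide +kernel
  have h1 := fun p q hp hq => b9 ⟨ψ (rr p q), mem_c1.2 (Commute.map (k p q hp hq 5 (by decide)) ψ).symm⟩
    (Subtype.ext (xU p q hp hq)) (Subtype.ext (Commute.map (k p q hp hq 16 (by decide)) ψ))
    (Subtype.ext (Commute.map (k p q hp hq 32 (by decide)) ψ))
  rw [am] at b2
  refine ⟨x, y, congrArg Subtype.val b1, fun p q hp hq => congrArg Subtype.val (h1 p q hp hq).1,
    congrArg Subtype.val b2, congrArg Subtype.val b3, congrArg Subtype.val b4, congrArg Subtype.val b5,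
    fun p q hp hq => congrArg Subtype.val (h1 p q hp hq).2, congrArg Subtype.val b6, congrArg Subtype.val b7,
    fun h => congrArg Subtype.val (b8 fun e => h (congrArg Subtype.val e)), fun c hc => ?_⟩
  obtain ⟨h, h2, h3⟩ := b10 ⟨c, mem_c1.2 hc.symm⟩
  refine ⟨h, ?_, congrArg Subtype.val h3⟩
  simpa [MonoidHom.map_closure, Set.image_insert_eq, a] using mem_map_of_mem (Subgroup.subtype _) h2

end HB
end Cfsg.Lib.D6
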