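import Cfsg.Agent.Lib.D6.AltC0
import Cfsg.Agent.Lib.D6.S7
import Cfsg.Agent.Lib.Cor.S3287
import Cfsg.Agent.Lib.Misc.A8Sub

/-!
# The alternating case: the relation between the 3-cycle and the reflection `r₄₅`

Notation: `t = av 16 = (8 9)(10 11)`, `p = av 32 = (8 10)(9 11)`, `e = ee 6 8 = (6 7)(8 9)`,
`r = rr 6 8 = (6 8)(7 9)`, `α = av 21`, `w = av 5 = α t`.  The classes of involutions of `W` in `G` are given by `n1`.
Let `J` be the centralizer of the reflections `rr a b`, `a, b < 6`; it contains `α, t, p, e, r, x, y, w`.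
-/
/-
Sketch.
1. `W ⊓ J ⊓ C(t) = T = ⟨p, e⟩ × ⟨α⟩` (order 16), `T` is Sylow in `J` (`Z(T) = {1, t, α, w}` has three different classes,
   so `N(T) ≤ C(α) = W`).
2. Thompson transfer in `J` (`D₈ = ⟨p, e⟩` has only involutions with `n1 = 8`): `α ∉ O²(J)`.
3. `O(J) = 1`: `C_O(α) = 1` (`[o, t] = ee * ee` has order at most 2, so `o ∈ T`), hence `α` and `α^x` invert `O`, `O` is
   centralized by `p` and its `J`-conjugates, so by `W(D₃) × W(D₃)`; `XD.fac` transported by `W` to the blocks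
   `{0..3}, {6..9}, {4,5,10,11}` gives `o = h n`, `h` centralizing `W(D₄)`, `n ∈ W` centralizing the three four-groups
   (`norm_A`, `cent_A'`), so `o² ` centralizes `ee 2 8`, hence `ee 4 10` and `α`.
4. `L = ⟨t^J⟩` has Sylow subgroup `D₈`, contains `x` (`x e x⁻¹ e = t x²`), `y`, `r`, and is simple.
5. `C_L(t) ≤ N(⟨t, p⟩)` by `XD.fac` transported by `rr 4 8 * rr 6 10`; `N_L(⟨t, p⟩)` is solvable; `Cor.s3287`.
6. `L` embeds in `S₇` (`A₇`, `A₆ = L₂(9)`, or order 168 acting on the cosets of `⟨p, e, r⟩ ≅ S₄`; `A₅` has no `D₈`);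
   conjugation by `α` fixes `p, r` and sends `x` to `t x t`; apply `s7`.
-/

set_option autoImplicit false
set_option synthInstance.maxSize 8000
set_option maxRecDepth 100000

namespace Cfsg.Lib.D6
open Equiv Subgroup Cfsg.Lib.PC Cfsg.Lib.FT Cfsg.Lib.GW

attribute [local irreducible] av nn rr ee L ty lab R cm

theorem s7f {X : Type*} [Group X] (f : X →* Perm (Fin 7)) (hf : Function.Injective f) {t p e r x y : X}
    (ht : t ≠ 1) (hp : p * p = 1) (he : e * e = 1) (hr : r * r = 1)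
    (h1 : p * e * (p * e) = t) (h2 : t * t = 1) (h3 : r * e = e * r) (h4 : r * t * r = e * t) (h5 : (r * p) ^ 3 = 1)
    (x3 : x ^ 3 = 1) (xt : x * t = p * t * x) (xp : x * p = t * x) (xe : x * e * x * e = p)
    (hs : (x * p * r) ^ 3 = 1 ↔ (t * x * t * p * r) ^ 3 = 1)
    (y3 : y ^ 3 = 1) (ye : y * e = e * y) (yt : t * y * t * y = 1) (xy : y ≠ 1 → (x * y) ^ 2 = 1) :
    (x * r) ^ 4 = 1 ∧ y * r = r * y := by
  obtain ⟨g, hg⟩ := isConj_iff.1 (S7.conj_t0 (c := f (p * e)) (t := f t) ((map_ne_one_iff f hf).2 ht)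
    (by rw [← map_mul, h1]) (by rw [← map_mul, h2, map_one]))
  obtain ⟨φ, hφ, h0⟩ : ∃ φ : X →* Perm (Fin 7), Function.Injective φ ∧ φ t = S7.t0 :=
    ⟨(MulAut.conj g).toMonoidHom.comp f, (MulAut.conj g).injective.comp hf, hg⟩
  have h6 : p * t = t * p := by
    have a : t = e * p * (e * p) := by
      rw [← inv_eq_of_mul_eq_one_right h2, ← h1]
      simp only [mul_inv_rev, inv_eq_of_mul_eq_one_right hp, inv_eq_of_mul_eq_one_right he]
    nth_rewrite 1 [a]
    rw [← h1]; group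
  have := S7.s7' (p := φ p) (e := φ e) (r := φ r) (x := φ x) (y := φ y)
  simp only [← h0, ← map_mul, ← map_pow, map_eq_one_iff φ hφ, hφ.eq_iff, ne_eq] at this
  exact this hp he hr h6 h1 h3 h4 h5 x3 xt xp xe hs y3 ye yt xy

/-- brute force in `S₇` -/
theorem s7 {t p e r x y : Perm (Fin 7)} (ht : t ≠ 1) (hp : p * p = 1) (he : e * e = 1) (hr : r * r = 1)
    (h1 : p * e * (p * e) = t) (h2 : t * t = 1) (h3 : r * e = e * r) (h4 : r * t * r = e * t) (h5 : (r * p) ^ 3 = 1)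
    (x3 : x ^ 3 = 1) (xt : x * t = p * t * x) (xp : x * p = t * x) (xe : x * e * x * e = p)
    (hs : (x * p * r) ^ 3 = 1 ↔ (t * x * t * p * r) ^ 3 = 1)
    (y3 : y ^ 3 = 1) (ye : y * e = e * y) (yt : t * y * t * y = 1) (xy : y ≠ 1 → (x * y) ^ 2 = 1) :
    (x * r) ^ 4 = 1 ∧ y * r = r * y :=
  s7f (MonoidHom.id _) Function.injective_id ht hp he hr h1 h2 h3 h4 h5 x3 xt xp xe hs y3 ye yt xy

theorem emb_alt {X : Type*} [Group X] {n : ℕ} (hn : n ≤ 7) (e : X ≃* alternatingGroup (Fin n)) :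
    ∃ f : X →* Perm (Fin 7), Function.Injective f :=
  ⟨(Perm.viaEmbeddingHom (Fin.castLEEmb hn)).comp ((Subgroup.subtype _).comp e.toMonoidHom),
    (Perm.viaEmbeddingHom_injective _).comp ((subtype_injective _).comp e.injective)⟩

theorem emb7 {X : Type*} [Group X] [Finite X] [IsSimpleGroup X] (S : Sylow 2 X) {m : ℕ}
    (eS : (S : Subgroup X) ≃* DihedralGroup m) {t p x : X} (hf : Four t p) (hS : (S : Subgroup X) ≤ C1[t])
    (hC : C1[t] ≤ N[four t p]) (x3 : x ^ 3 = 1) (hx : x ∈ N[four t p]) (hx' : x ∉ C1[t]) :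
    ∃ f : X →* Perm (Fin 7), Function.Injective f := by
  have hd := dih2_of_dihedral S eS
  have h1 : Group.IsSolvable N[four t p] := by
    have := hd.solvable_of_le_c1 hf.ht (X := C[four t p]) ((centralizer_four t p).le.trans inf_le_left)
    refine isSolvable_of_normal_quotient (C[four t p].subgroupOf N[four t p])
      (Group.isSolvable_of_surjective (f := (subgroupOfEquivOfLe (centralizer_le_normalizer _)).symm.toMonoidHom)
        (MulEquiv.surjective _)) (isSolvable_of_card_dvd_24 ?_)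
    have h6 := (sm_relIndex_centralizer_dvd (four t p)).trans (sm_card_mulAut_dvd_factorial _)
    rw [hf.card] at h6
    exact h6.trans (by decide)
  rcases Cor.s3287 S m eS t hf.ht _ (hC.lt_of_ne fun e => hx' (e ▸ hx)) (fstar_eq_fitting_of_layer_eq_bot
    (centralizer_fitting_le_iff_layer_eq_bot.1 (centralizer_fitting_le_of_solvable h1))) with
    ⟨⟨e⟩⟩ | ⟨⟨e⟩⟩ | ⟨F, _, _, hF, ⟨e⟩⟩ | ⟨F, _, _, hF, ⟨e⟩⟩
  · exact emb_alt (by norm_num) e
  · exact emb_alt (by norm_num) e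
  · have h2 : N[four t p] ≠ ⊤ := fun h => by
      rcases (normal_of_top_le_normalizer h.ge).eq_bot_or_eq_top with h3 | h3
      · exact hf.t_ne (h3.le (left_mem_four t p))
      · exact hx' (hf.le_c (h3.ge (mem_top x))).1
    have h3 := N[four t p].card_mul_index
    rw [Nat.card_congr e.toEquiv, h9_card_psl32 hF] at h3
    have h4 : ¬ 2 ∣ N[four t p].index := fun h => S.not_dvd_index (h.trans (index_dvd_of_le (hS.trans hC)))
    have : Fact (Nat.Prime 3) := ⟨by norm_num⟩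
    obtain ⟨k, hk⟩ : 3 ∣ Nat.card N[four t p] := orderOf_eq_prime x3 (by rintro rfl; exact hx' (one_mem _)) ▸
      orderOf_dvd_natCard _ hx
    have h5 : N[four t p].index = 7 := by
      have h6 : N[four t p].index ∣ 8 * 7 := ⟨k, by rw [hk] at h3; linarith⟩
      refine ((Nat.dvd_prime (by norm_num)).1 (Nat.Coprime.dvd_of_dvd_mul_left
        (Nat.Coprime.pow_right 3 ((Nat.coprime_two_right).2 (Nat.odd_iff.2 (by omega)))) h6)).resolve_left ?_
      rwa [index_eq_one]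
    refine ⟨(Finite.equivFinOfCardEq h5).permCongrHom.toMonoidHom.comp (MulAction.toPermHom X _),
      (Finite.equivFinOfCardEq h5).permCongrHom.injective.comp
        ((MulAction.toPermHom X (X ⧸ N[four t p])).ker_eq_bot_iff.1 ?_)⟩
    rw [← normalCore_eq_ker]
    exact (normalCore_normal _).eq_bot_or_eq_top.resolve_right fun h => h2 (eq_top_iff.2 (h.ge.trans (normalCore_le _)))
  · obtain ⟨e'⟩ := BSW.nonempty_a6_psl F hF
    exact emb_alt (by norm_num) (e.trans e'.symm)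

variable {G : Type*} [Group G] [Finite G] {ψ : Wg →* G}

theorem HB.dh (H : HB ψ) {x y : G} (X : XD ψ x y) :
    DD.Dh (TT ψ ⊓ LL ψ) (ψ (av 32 * ee 6 8)) (ψ (av 16)) (ψ (av 32)) := by
  have h1 : ∀ d ∈ D8, ψ d ∈ TT ψ ⊓ LL ψ := fun d hd =>
    ⟨d_mem_TT (List.mem_cons_of_mem _ hd), X.d_mem (List.mem_cons_of_mem _ hd)⟩
  have h2 : ∀ d, (∃ k : Fin 4, d = (av 32 * ee 6 8) ^ k.1) → ψ d ∈ zpowers (ψ (av 32 * ee 6 8)) := by
    rintro _ ⟨k, rfl⟩
    rw [map_pow]; exact pow_mem (mem_zpowers _) _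
  have k : ∀ d ∈ D8, (∃ k : Fin 4, d = (av 32 * ee 6 8) ^ k.1) ∨ d * d = 1 ∧ ∀ d' ∈ D8,
      (∃ k : Fin 4, d' = (av 32 * ee 6 8) ^ k.1) ∨ ∃ k : Fin 4, d * d' = (av 32 * ee 6 8) ^ k.1 := by decide +kernel
  refine ⟨⟨h1 _ (by decide +kernel), fun a ha a' => ?_, fun a ha b hb a' b' => ?_⟩, H.a_ord (by decide),
    h2 _ (by decide +kernel), h1 _ (by decide +kernel), fun h => ?_⟩
  · obtain ⟨d, hd, rfl⟩ := H.mem_TL X ha
    rw [← map_mul, ((k d hd).resolve_left fun e => a' (h2 _ e)).1, map_one]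
  · obtain ⟨d, hd, rfl⟩ := H.mem_TL X ha
    obtain ⟨d', hd', rfl⟩ := H.mem_TL X hb
    rw [← map_mul]
    exact h2 _ ((((k d hd).resolve_left fun e => a' (h2 _ e)).2 d' hd').resolve_left fun e => b' (h2 _ e))
  · have := DD.comm_of_mem_zpowers h (mem_zpowers _)
    rw [← map_mul, ← map_mul ψ _ (av 32)] at this
    exact absurd (H.inj this) (by decide +kernel)

theorem HB.crux (H : HB ψ) {x y : G} (X : XD ψ x y) : (x * ψ (rr 6 8)) ^ 4 = 1 ∧ Commute y (ψ (rr 6 8)) := by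
  have := H.simple_LL X
  obtain ⟨S, hS⟩ := H.syl_LL.exists_sylow'
  obtain ⟨m, -, ⟨eS⟩⟩ := (H.dh X).isDih
  have ht := X.d_mem (d := av 16) (by decide +kernel)
  have hp := X.d_mem (d := av 32) (by decide +kernel)
  have he := X.d_mem (d := ee 6 8) (by decide +kernel)
  have hr := X.d_mem (d := rr 6 8) (by decide +kernel)
  have hf : Four (⟨_, ht⟩ : LL ψ) ⟨_, hp⟩ := ⟨(orderOf_coe _).symm.trans (H.a_ord (by decide)),
    (orderOf_coe _).symm.trans (H.a_ord (by decide)), fun e => absurd (H.ainj (congrArg Subtype.val e)) (by decide),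
    Subtype.ext (a_comm _ _)⟩
  have h48 : ψ (av 16) * ψ (av 32) = ψ (av 48) := a_mul _ _
  obtain ⟨f, hf⟩ := emb7 S (((MulEquiv.subgroupCongr hS).trans (subgroupOfEquivOfLe inf_le_right)).trans eS) hf
    (x := ⟨x, X.x_mem⟩) (fun z hz => mem_c1.2 (Subtype.ext (mem_c1.1 (hS.le hz).1.2))) (fun c hc => by
      refine Four.mem_normalizer (by rw [conj_eq_of_c1 hc]; exact left_mem_four _ _) (hf.mem_four.2 (Or.inr (Or.inr ?_)))
      have := (X.act2 H.toHyp (rr 4 8 * rr 6 10) (c := c.1) (JJ_comm (LL_le' c.2) (by decide +kernel)) (by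
        rw [show _ * ee 4 6 * _ = av 16 by decide +kernel]; exact congrArg Subtype.val (mem_c1.1 hc))).1
      rw [show _ * rr 4 6 * _ = av 32 by decide +kernel, show _ * (ee 4 6 * rr 4 6) * _ = av 48 by decide +kernel,
        ← h48] at this
      exact this.imp Subtype.ext Subtype.ext) (Subtype.ext X.x3)
    (Four.mem_normalizer (hf.mem_four.2 (Or.inr (Or.inr (Or.inr (Subtype.ext (X.xt.trans h48.symm))))))
      (hf.mem_four.2 (Or.inr (Or.inl (Subtype.ext X.xp))))) fun h => by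
      have := X.xt
      rw [conj_eq_of_c1 (mem_c1.2 (congrArg Subtype.val (mem_c1.1 h)))] at this
      exact absurd (H.ainj this) (by decide)
  have k : ∀ {u v : Wg}, u = v → ψ u = ψ v := congrArg ψ
  have h1 : ψ (av 21) * (x * ψ (av 32) * ψ (rr 6 8)) * (ψ (av 21))⁻¹ =
      ψ (av 16) * x * ψ (av 16) * ψ (av 32) * ψ (rr 6 8) := by
    rw [← conj_mul, ← conj_mul, ← al_comm' (av 32), ← al_comm' (rr 6 8), mul_inv_cancel_right, mul_inv_cancel_right,
      show (21 : Fin 64) = 16 ^^^ 5 by decide, ← a_mul, mul_assoc _ _ x,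
      ← (comm_of_fix (k := 4) X.xU (v := av 5) (by decide +kernel)).eq, mul_inv_rev, a_inv 16]
    group
  have := s7f f hf (t := ⟨_, ht⟩) (p := ⟨_, hp⟩) (e := ⟨_, he⟩) (r := ⟨_, hr⟩) (x := ⟨x, X.x_mem⟩)
    (y := ⟨y, X.y_mem⟩)
  simp only [Subtype.ext_iff, coe_mul, coe_pow, coe_one, ne_eq] at this
  refine this (H.a_ne (by decide)) (a_sq _) ?_ ?_ ?_ (a_sq _) ?_ ?_ ?_ X.x3 ?_ (mul_inv_eq_iff_eq_mul.1 X.xp) X.xe
    (by rw [← h1, conj_pow, conj_eq_one_iff]) X.y3 X.ye (by rw [X.yt, inv_mul_cancel]) X.xy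
  any_goals simp only [← map_mul, ← map_pow, ← map_one ψ]; exact k (by decide +kernel)
  rw [a_mul]; exact mul_inv_eq_iff_eq_mul.1 X.xt

end Cfsg.Lib.D6
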