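import Cfsg.Agent.Lib.D6.AltA
import Cfsg.Agent.Lib.DD.Tools

/-!
# The alternating case: the centralizer `J` of the reflections `rr a b`, `a, b < 6`
-/

set_option autoImplicit false
set_option synthInstance.maxSize 8000
set_option maxRecDepth 100000

namespace Cfsg.Lib.D6
open Equiv Subgroup Cfsg.Lib.PC Cfsg.Lib.FT Cfsg.Lib.GW

attribute [local irreducible] av nn rr ee L ty lab R cm

theorem fix_one {v : Wg} (h : ∀ i : Fin 12, i ≠ 6 → i ≠ 7 → v.1 i = i) : v = 1 := by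
  have k : ∀ i : Fin 12, 2 * 1 ≤ i.1 → (rr 0 6).1⁻¹ i ≠ 6 ∧ (rr 0 6).1⁻¹ i ≠ 7 := by decide +kernel
  have k2 : ∀ p q : Fin 12, p.1 < 2 * 1 → q.1 < 2 * 1 → rr p q = 1 := by decide +kernel
  have := gen_W 1 ⊥ (fun p q hp hq => mem_bot.2 (k2 p q hp hq)) (rr 0 6 * v * (rr 0 6)⁻¹) fun i hi => by
    rw [coe_mul, coe_mul, coe_inv, Perm.mul_apply, Perm.mul_apply, h _ (k i hi).1 (k i hi).2]
    simp
  exact conj_eq_one_iff.1 (mem_bot.1 this)

theorem fix6 {u : Wg} (h : ∀ p q : Fin 12, p.1 < 6 → q.1 < 6 → u * rr p q = rr p q * u) :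
    (∀ i : Fin 12, i.1 < 6 → u.1 i = i) ∨ ∀ i : Fin 12, i.1 < 6 → (u * av 21).1 i = i := by
  have h1 : ∀ p q : Fin 12, p.1 < 6 → q.1 < 6 → rr (u.1 p) (u.1 q) = rr p q := fun p q hp hq => by
    rw [← conj_rr, h p q hp hq]; group
  have k : ∀ a b : Fin 12, rr a b = rr 0 2 → ∀ c, rr a c = rr 0 4 → rr b c = rr 2 4 →
      (a = 0 ∧ b = 2 ∧ c = 4) ∨ (a = bar 0 ∧ b = bar 2 ∧ c = bar 4) := by decide +kernel
  have k2 : ∀ i : Fin 12, i.1 < 6 → i = 0 ∨ i = 2 ∨ i = 4 ∨ i = bar 0 ∨ i = bar 2 ∨ i = bar 4 := by decide +kernel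
  refine (k _ _ (h1 0 2 (by decide) (by decide)) _ (h1 0 4 (by decide) (by decide))
    (h1 2 4 (by decide) (by decide))).imp (fun ⟨a, b, c⟩ i hi => ?_) fun ⟨a, b, c⟩ i hi => ?_
  · rcases k2 i hi with rfl | rfl | rfl | rfl | rfl | rfl <;> simp only [W_bar, a, b, c]
  · rw [coe_mul, av_al, Perm.mul_apply, a0_apply]
    rcases k2 i hi with rfl | rfl | rfl | rfl | rfl | rfl <;> simp only [W_bar, a, b, c, bar_bar]

/-- the dihedral group `⟨p, e⟩` -/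
def D8 : List Wg := [1, av 16, av 32, av 48, ee 6 8, av 16 * ee 6 8, av 32 * ee 6 8, av 48 * ee 6 8]

theorem d_enum {u : Wg} (h0 : ∀ i : Fin 12, i.1 < 6 → u.1 i = i) (h2 : u * av 16 = av 16 * u) : u ∈ D8 := by
  have h1 : ee (u.1 8) (u.1 10) = av 16 := by
    rw [← conj_ee, ← show av 16 = ee 8 10 by decide +kernel, h2]; group
  have k : ∀ a b : Fin 12, ee a b = av 16 → ∃ d ∈ D8, (∀ i : Fin 12, i.1 < 6 → d.1 i = i) ∧ d.1 8 = a ∧
      d.1 10 = b := by decide +kernel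
  have k2 : ∀ i : Fin 12, i ≠ 6 → i ≠ 7 → i.1 < 6 ∨ i = 8 ∨ i = 10 ∨ i = bar 8 ∨ i = bar 10 := by decide +kernel
  obtain ⟨d, hd, a, b, c⟩ := k _ _ h1
  rw [← inv_mul_eq_one.1 (fix_one (v := d⁻¹ * u) fun i h6 h7 => ?_)]
  · exact hd
  rw [coe_mul, coe_inv, Perm.mul_apply, Perm.inv_eq_iff_eq]
  rcases k2 i h6 h7 with h | rfl | rfl | rfl | rfl
  · rw [h0 i h, a i h]
  all_goals simp only [W_bar, b, c]

variable {G : Type*} [Group G] {ψ : Wg →* G} {x y : G}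

theorem comm_of_fix {k : ℕ} {g : G} (h : ∀ p q : Fin 12, p.1 < 2 * k → q.1 < 2 * k → Commute g (ψ (rr p q)))
    {v : Wg} (hv : ∀ i : Fin 12, 2 * k ≤ i.1 → v.1 i = i) : Commute g (ψ v) :=
  (mem_c1.1 (gen_W k (C1[g].comap ψ) (fun p q hp hq => mem_c1.2 (h p q hp hq).eq.symm) v hv)).symm

/-- the centralizer of a conjugate of `w` acts on the corresponding `W(D₄)` as an element of `W` -/
theorem XD.actW (H : Hyp ψ) (X : XD ψ x y) (g : Wg) {c : G} (hc : Commute c (ψ (g * av 5 * g⁻¹))) :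
    ∃ n : Wg, ∀ v : Wg, (∀ i : Fin 12, 8 ≤ i.1 → v.1 i = i) →
      c * ψ (g * v * g⁻¹) * c⁻¹ = ψ (g * (n * v * n⁻¹) * g⁻¹) := by
  obtain ⟨h, hh, hm⟩ := X.fac ((ψ g)⁻¹ * c * ψ g) (by
    have := hc.eq
    rw [map_mul, map_mul, map_inv] at this
    show _ = _
    calc _ = (ψ g)⁻¹ * (ψ g * ψ (av 5) * (ψ g)⁻¹ * c) * ψ g := by group
      _ = _ := by rw [← this]; group)
  have h1 : ∀ v : Wg, (∀ i : Fin 12, 8 ≤ i.1 → v.1 i = i) → Commute h (ψ v) := fun v hv => by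
    have k : ∀ c ∈ [16, 32], ∀ p q : Fin 12, p.1 < 2 * 4 → q.1 < 2 * 4 → av c * rr p q = rr p q * av c := by
      decide +kernel
    have k' : ∀ c ∈ [16, 32], Commute (ψ (av c)) (ψ v) := fun c hc =>
      comm_of_fix (k := 4) (fun p q hp hq => Commute.map (k c hc p q hp hq) ψ) hv
    refine mem_c1.1 ((closure_le C1[ψ v]).2 ?_ hh)
    rintro _ (rfl | rfl | rfl | rfl)
    exacts [mem_c1.2 (comm_of_fix (k := 4) X.xU hv), mem_c1.2 (comm_of_fix (k := 4) X.yU hv),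
      mem_c1.2 (k' _ (by simp)), mem_c1.2 (k' _ (by simp))]
  have h5 : Commute (ψ (av 5)) (h⁻¹ * ((ψ g)⁻¹ * c * ψ g)) := by
    refine (h1 _ (by decide +kernel)).symm.inv_right.mul_right ?_
    have := hc.eq
    rw [map_mul, map_mul, map_inv] at this
    show _ = _
    calc _ = (ψ g)⁻¹ * (ψ g * ψ (av 5) * (ψ g)⁻¹ * c) * ψ g := by group
      _ = _ := by rw [← this]; group
  obtain ⟨n, hn⟩ := H.cent (h⁻¹ * ((ψ g)⁻¹ * c * ψ g)) (by
    rw [show (21 : Fin 64) = 5 ^^^ 16 by decide, ← a_mul]; exact (h5.mul_left hm).eq.symm)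
  refine ⟨n, fun v hv => ?_⟩
  have h2 : ee (n⁻¹.1 8) (n⁻¹.1 10) = av 16 := H.inj (by
    rw [← conj_ee, ← show av 16 = ee 8 10 by decide +kernel, inv_inv, map_mul, map_mul, map_inv, mul_assoc,
      hn, hm.eq]; group)
  have k : ∀ a b : Fin 12, ee a b = av 16 → 8 ≤ a.1 ∧ 8 ≤ b.1 ∧ 8 ≤ (bar a).1 ∧ 8 ≤ (bar b).1 := by decide +kernel
  have k2 : ∀ i : Fin 12, 8 ≤ i.1 → i = 8 ∨ i = 10 ∨ i = bar 8 ∨ i = bar 10 := by decide +kernel
  have h3 := (h1 (n * v * n⁻¹) fun i hi => by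
    rw [coe_mul, coe_mul, Perm.mul_apply, Perm.mul_apply, hv]
    · simp
    obtain ⟨a, b, c, d⟩ := k _ _ h2
    rcases k2 i hi with rfl | rfl | rfl | rfl <;> simp only [W_bar, a, b, c, d]).eq
  simp only [map_mul, map_inv, hn] at h3 ⊢
  calc _ = ψ g * (h * (h⁻¹ * ((ψ g)⁻¹ * c * ψ g) * ψ v * (h⁻¹ * ((ψ g)⁻¹ * c * ψ g))⁻¹) * h⁻¹) * (ψ g)⁻¹ := by group
    _ = _ := by rw [h3]; group

theorem XD.act2 (H : Hyp ψ) (X : XD ψ x y) (g : Wg) {c : G} (h1 : Commute c (ψ (g * ee 0 2 * g⁻¹)))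
    (h2 : Commute c (ψ (g * ee 4 6 * g⁻¹))) : (c * ψ (g * rr 4 6 * g⁻¹) * c⁻¹ = ψ (g * rr 4 6 * g⁻¹) ∨
      c * ψ (g * rr 4 6 * g⁻¹) * c⁻¹ = ψ (g * (ee 4 6 * rr 4 6) * g⁻¹)) ∧ Commute (c * c) (ψ (g * ee 2 6 * g⁻¹)) := by
  have h3 : Commute c (ψ (g * (ee 0 2 * ee 4 6) * g⁻¹)) := by
    rw [← conj_mul, map_mul]; exact h1.mul_right h2
  obtain ⟨n, hn⟩ := X.actW H g (c := c) (by rwa [show av 5 = ee 0 2 * ee 4 6 by decide +kernel])
  have h4 : ∀ p q, (∀ i : Fin 12, 8 ≤ i.1 → (ee p q).1 i = i) → Commute c (ψ (g * ee p q * g⁻¹)) →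
      ee (n.1 p) (n.1 q) = ee p q := fun p q a b => by
    have := hn _ a
    rw [b.eq, mul_inv_cancel_right, conj_ee n] at this
    simpa using (H.inj this).symm
  have a1 := h4 0 2 (by decide +kernel) h1
  have a2 := h4 4 6 (by decide +kernel) h2
  have k : ∀ a b : Fin 12, ee a b = ee 4 6 → rr a b = rr 4 6 ∨ rr a b = ee 4 6 * rr 4 6 := by decide +kernel
  have k2 : ∀ a b : Fin 12, ee a b = ee 0 2 → ∀ c d, ee c d = ee 4 6 →
      ∃ v ∈ [1, ee 0 2, ee 4 6, ee 0 2 * ee 4 6], ee b d = ee 2 6 * v ∧ v * v = 1 := by decide +kernel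
  refine ⟨by rw [hn _ (by decide +kernel), conj_rr n]; exact (k _ _ a2).imp (by rw [·]) (by rw [·]), ?_⟩
  obtain ⟨v, hv, e, e'⟩ := k2 _ _ a1 _ _ a2
  have h5 := hn (ee 2 6) (by decide +kernel)
  rw [conj_ee n, e, ← conj_mul, map_mul ψ (_ * _) (_ * _)] at h5
  have h6 : Commute c (ψ (g * v * g⁻¹)) := by
    simp only [List.mem_cons, List.not_mem_nil, or_false] at hv
    rcases hv with rfl | rfl | rfl | rfl
    exacts [by simp, h1, h2, h3]
  have h7 : ψ (g * v * g⁻¹) * ψ (g * v * g⁻¹) = 1 := by rw [← map_mul, conj_mul, e']; simp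
  refine mul_inv_eq_iff_eq_mul.1 ?_
  calc _ = c * (c * ψ (g * ee 2 6 * g⁻¹) * c⁻¹) * c⁻¹ := by group
    _ = c * ψ (g * ee 2 6 * g⁻¹) * c⁻¹ * (c * ψ (g * v * g⁻¹) * c⁻¹) := by
      nth_rewrite 1 [h5]; simp only [mul_assoc, inv_mul_cancel_left]
    _ = _ := by rw [h5, h6.eq, mul_inv_cancel_right, mul_assoc, h7, mul_one]

/-- the centralizer of `W(D₃)` -/
def JJ (ψ : Wg →* G) : Subgroup G := centralizer {z | ∃ p q : Fin 12, p.1 < 6 ∧ q.1 < 6 ∧ z = ψ (rr p q)}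

theorem mem_JJ {g : G} : g ∈ JJ ψ ↔ ∀ p q : Fin 12, p.1 < 6 → q.1 < 6 → Commute g (ψ (rr p q)) :=
  mem_centralizer_iff.trans ⟨fun h p q hp hq => (h _ ⟨p, q, hp, hq, rfl⟩).symm,
    fun h _ ⟨p, q, hp, hq, e⟩ => e ▸ (h p q hp hq).eq.symm⟩

theorem JJ_comm {g : G} (h : g ∈ JJ ψ) {v : Wg} (hv : ∀ i : Fin 12, 6 ≤ i.1 → v.1 i = i) : Commute g (ψ v) :=
  comm_of_fix (k := 3) (mem_JJ.1 h) hv

theorem w_mem_JJ {u : Wg} (h : u ∈ rr 6 8 :: av 21 :: D8) : ψ u ∈ JJ ψ := by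
  have k : ∀ u ∈ rr 6 8 :: av 21 :: D8, ∀ p q : Fin 12, p.1 < 6 → q.1 < 6 → u * rr p q = rr p q * u := by
    decide +kernel
  exact mem_JJ.2 fun p q hp hq => Commute.map (k u h p q hp hq) ψ

theorem XD.xJ (X : XD ψ x y) : x ∈ JJ ψ := mem_JJ.2 fun p q hp hq => X.xU p q (by omega) (by omega)
theorem XD.yJ (X : XD ψ x y) : y ∈ JJ ψ := mem_JJ.2 fun p q hp hq => X.yU p q (by omega) (by omega)

/-- a Sylow 2-subgroup of `J` -/
def TT (ψ : Wg →* G) : Subgroup G := JJ ψ ⊓ C1[ψ (av 21)] ⊓ C1[ψ (av 16)]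

theorem TT_le : TT ψ ≤ JJ ψ := inf_le_left.trans inf_le_left

theorem d_mem_TT {d : Wg} (h : d ∈ av 21 :: D8) : ψ d ∈ TT ψ := by
  have k : ∀ d ∈ av 21 :: D8, d * av 16 = av 16 * d := by decide +kernel
  exact ⟨⟨w_mem_JJ (List.mem_cons_of_mem _ h), mem_c1.2 (al_comm' d)⟩, mem_c1.2 (Commute.map (k d h) ψ)⟩

theorem Hyp.mem_TT (H : Hyp ψ) {z : G} (h : z ∈ TT ψ) : ∃ d ∈ D8, z = ψ d ∨ z = ψ (d * av 21) := by
  obtain ⟨u, rfl⟩ := H.cent z (mem_c1.1 h.1.2)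
  have h2 : u * av 16 = av 16 * u := H.inj (by rw [map_mul, map_mul, mem_c1.1 h.2])
  rcases fix6 (u := u) fun p q hp hq => H.inj (by rw [map_mul, map_mul, (mem_JJ.1 h.1.1 p q hp hq).eq]) with e | e
  · exact ⟨u, d_enum e h2, Or.inl rfl⟩
  · exact ⟨_, d_enum e (by rw [mul_assoc, av_comm, ← mul_assoc, h2, mul_assoc]), Or.inr (by
      rw [mul_assoc, av_sq, mul_one])⟩

theorem Hyp.pg_TT (H : Hyp ψ) : IsPGroup 2 (TT ψ) := fun z => ⟨2, Subtype.ext (by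
  have k : ∀ d ∈ D8, d ^ 2 ^ 2 = 1 ∧ (d * av 21) ^ 2 ^ 2 = 1 := by decide +kernel
  obtain ⟨d, hd, e | e⟩ := H.mem_TT z.2 <;> rw [coe_pow, e, ← map_pow] <;> simp only [k d hd, map_one, coe_one])⟩

variable [Finite G]

theorem Hyp.syl_TT (H : Hyp ψ) : IsSylowIn 2 (TT ψ) (JJ ψ) := by
  by_contra h
  obtain ⟨n, h1, h2, h3, -⟩ := exists_mem_normalizer_not_mem_of_isPGroup H.pg_TT TT_le h
  have k : ∀ d ∈ D8, ∀ u ∈ [d, d * av 21], av 32 * u = u * av 32 → ee 6 8 * u = u * ee 6 8 →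
      u = 1 ∨ ∃ c ∈ [5, 16, 21], u = av c := by decide +kernel
  have key : ∀ c ∈ [16, 21], n ∈ C1[ψ (av c)] := fun c hc => by
    have h4 : ψ (av c) ∈ TT ψ := d_mem_TT (by revert c; decide +kernel)
    have h5 : ∀ z ∈ TT ψ, z * (n * ψ (av c) * n⁻¹) = n * ψ (av c) * n⁻¹ * z := fun z hz => by
      have h6 := conj_mem_of_mem_normalizer' h2 hz
      have h7 : n⁻¹ * z * n * ψ (av c) = ψ (av c) * (n⁻¹ * z * n) := by
        simp only [List.mem_cons, List.not_mem_nil, or_false] at hc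
        rcases hc with rfl | rfl
        exacts [mem_c1.1 h6.2, mem_c1.1 h6.1.2]
      calc _ = n * (n⁻¹ * z * n * ψ (av c)) * n⁻¹ := by group
        _ = _ := by rw [h7]; group
    obtain ⟨d, hd, e⟩ := H.mem_TT (conj_mem_of_mem_normalizer h2 h4)
    obtain ⟨u, hu, e⟩ : ∃ u ∈ [d, d * av 21], n * ψ (av c) * n⁻¹ = ψ u := by simpa using e
    rw [e] at h5
    rcases k d hd u hu (H.inj (by rw [map_mul, map_mul, h5 _ (d_mem_TT (by decide +kernel))]))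
      (H.inj (by rw [map_mul, map_mul, h5 _ (d_mem_TT (by decide +kernel))])) with rfl | ⟨c', hc', rfl⟩
    · exact absurd (conj_eq_one_iff.1 (e.trans (map_one ψ))) (H.a_ne (by rintro rfl; exact absurd hc (by decide)))
    · obtain rfl := H.not_conj (List.mem_cons_of_mem _ hc) hc' (isConj_iff.2 ⟨n, e⟩)
      exact mem_c1_of_conj e
  exact h3 ⟨⟨h1, key _ (by simp)⟩, key _ (by simp)⟩

/-- the subgroup generated by the involutions of `O²(J)` -/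
def LL (ψ : Wg →* G) : Subgroup G := closure {g | g ∈ DD.rs (JJ ψ) ∧ g * g = 1}

omit [Finite G] in
theorem LL_le : LL ψ ≤ DD.rs (JJ ψ) := (closure_le _).2 fun _ h => h.1

omit [Finite G] in
theorem LL_le' : LL ψ ≤ JJ ψ := LL_le.trans (DD.rs_le _)

omit [Finite G] in
theorem JJ_norm : JJ ψ ≤ N[LL ψ] := le_normalizer_closure_iff.2 fun g hg z hz =>
  subset_closure ⟨conj_mem_of_mem_normalizer (DD.le_rs_norm _ hg) hz.1, DD.conj_conj_mul hz.2 g⟩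

omit [Finite G] in
theorem odd_of_cube {z : G} (h : z ^ 3 = 1) : Odd (orderOf z) :=
  Odd.of_dvd_nat (by decide) (orderOf_dvd_of_pow_eq_one h)

omit [Finite G] in
theorem XD.d_mem (X : XD ψ x y) {d : Wg} (hd : d ∈ rr 6 8 :: D8) : ψ d ∈ LL ψ := by
  have hx := DD.mem_rs X.xJ (odd_of_cube X.x3)
  have h1 : ∀ u ∈ rr 6 8 :: av 21 :: D8, ∀ z ∈ DD.rs (JJ ψ), ψ u * z * (ψ u)⁻¹ ∈ DD.rs (JJ ψ) := fun u hu z hz =>
    conj_mem_of_mem_normalizer (DD.le_rs_norm _ (w_mem_JJ hu)) hz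
  have hp : ψ (av 32) ∈ DD.rs (JJ ψ) := by
    have := mul_mem hx (h1 (av 16) (by decide +kernel) _ (inv_mem hx))
    rwa [← mul_assoc, ← mul_assoc, X.xt, a_inv, a_mul] at this
  have ht : ψ (av 16) ∈ DD.rs (JJ ψ) := X.xp ▸ conj_mem_of_mem_normalizer (DD.le_rs_norm _ X.xJ) hp
  have hr : ψ (rr 6 8) ∈ DD.rs (JJ ψ) := (mul_mem_cancel_right hp).1 (DD.mem_rs
    (mul_mem (w_mem_JJ (by decide +kernel)) (w_mem_JJ (by decide +kernel)))
    (odd_of_cube (by rw [← map_mul, ← map_pow, show (rr 6 8 * av 32) ^ 3 = 1 by decide +kernel, map_one])))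
  have he : ψ (ee 6 8) ∈ DD.rs (JJ ψ) := by
    rw [show ee 6 8 = rr 6 8 * av 16 * rr 6 8 * av 16 by decide +kernel, map_mul, map_mul, map_mul]
    exact mul_mem (mul_mem (mul_mem hr ht) hr) ht
  have h2 : ∀ u, u * u = 1 → ψ u ∈ DD.rs (JJ ψ) → ψ u ∈ LL ψ := fun u a b =>
    subset_closure ⟨b, by rw [← map_mul, a, map_one]⟩
  replace hp := h2 _ (av_sq _) hp
  replace ht := h2 _ (av_sq _) ht
  replace he := h2 _ (by decide +kernel) he
  have h48 : ψ (av 48) ∈ LL ψ := by rw [show (48 : Fin 64) = 16 ^^^ 32 by decide, ← a_mul]; exact mul_mem ht hp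
  simp only [D8, List.mem_cons, List.not_mem_nil, or_false] at hd
  rcases hd with rfl | rfl | rfl | rfl | rfl | rfl | rfl | rfl | rfl <;> try rw [map_mul]
  exacts [h2 _ (by decide +kernel) hr, by simp, ht, hp, h48, he, mul_mem ht he, mul_mem hp he, mul_mem h48 he]

omit [Finite G] in
theorem XD.x_mem (X : XD ψ x y) : x ∈ LL ψ := by
  have he := X.d_mem (d := ee 6 8) (by decide +kernel)
  have h1 := mul_mem (conj_mem_of_mem_normalizer (JJ_norm X.xJ) he) he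
  have h2 : ψ (ee 6 8) * ψ (ee 6 8) = 1 := by rw [← map_mul, show ee 6 8 * ee 6 8 = 1 by decide +kernel, map_one]
  have h3 : x * ψ (ee 6 8) * x⁻¹ * ψ (ee 6 8) = ψ (av 16) * x ^ 2 := by
    rw [← X.xp, ← a_inv, ← X.xe]
    simp only [mul_inv_rev, inv_eq_of_mul_eq_one_right h2]
    group
  rw [h3, mul_mem_cancel_left (X.d_mem (by decide +kernel))] at h1
  have := pow_mem h1 2
  rwa [← pow_mul, pow_succ, X.x3, one_mul] at this

omit [Finite G] in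
theorem XD.y_mem (X : XD ψ x y) : y ∈ LL ψ := by
  have ht := X.d_mem (d := av 16) (by decide +kernel)
  have h1 := mul_mem (conj_mem_of_mem_normalizer (JJ_norm X.yJ) ht) ht
  have h3 : y * ψ (av 16) * y⁻¹ * ψ (av 16) = y ^ 2 := by
    rw [← X.yt]
    calc _ = y * (ψ (av 16) * ψ (av 16)) * y * (ψ (av 16) * ψ (av 16)) := by group
      _ = _ := by rw [a_sq, sq]; group
  have := pow_mem (h3 ▸ h1) 2
  rwa [← pow_mul, pow_succ, X.y3, one_mul] at this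

theorem HB.al_not_mem (H : HB ψ) (X : XD ψ x y) : ψ (av 21) ∉ DD.rs (JJ ψ) := fun h => by
  have h1 : TT ψ ≤ DD.rs (JJ ψ) := fun z hz => by
    obtain ⟨d, hd, rfl | rfl⟩ := H.mem_TT hz
    · exact LL_le (X.d_mem (List.mem_cons_of_mem _ hd))
    · rw [map_mul]; exact mul_mem (LL_le (X.d_mem (List.mem_cons_of_mem _ hd))) h
  let M := ((MulAction.stabilizer P12 (0 : Fin 12)).subgroupOf Wg).map ψ
  have hM : ∀ u, ψ u ∈ M ↔ u.1 0 = 0 := fun u => mem_map_iff_mem H.inj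
  have k : ∀ d ∈ D8, d.1 0 = 0 ∧ ∀ d' ∈ D8, (d * av 21 * (d' * av 21)).1 0 = 0 := by decide +kernel
  obtain ⟨g, -, u, hu, e⟩ := DD.tt_in (M := M) (DD.res_rs _) (H.syl_TT.mono h1 (DD.rs_le _))
    (DD.relIndex_two (d_mem_TT List.mem_cons_self) (by rw [hM]; decide +kernel) fun a ha b hb a' b' => by
      obtain ⟨d, hd, rfl | rfl⟩ := H.mem_TT ha
      · exact absurd ((hM _).2 (k d hd).1) a'
      obtain ⟨d', hd', rfl | rfl⟩ := H.mem_TT hb
      · exact absurd ((hM _).2 (k d' hd').1) b'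
      · rw [← map_mul, hM]; exact (k d hd).2 d' hd') (a_sq 21) h
  have := H.n1_eq (av_sq 21) (isConj_iff.2 ⟨g, e.symm⟩)
  rw [show n1 (av 21) = 0 by decide +kernel, n1, Finset.card_eq_zero, Finset.filter_eq_empty_iff] at this
  exact this (Finset.mem_univ 0) hu

theorem HB.mem_TL (H : HB ψ) (X : XD ψ x y) {z : G} (h : z ∈ TT ψ ⊓ LL ψ) : ∃ d ∈ D8, z = ψ d := by
  obtain ⟨d, hd, e | e⟩ := H.mem_TT h.1
  · exact ⟨d, hd, e⟩
  · have := h.2
    rw [e, map_mul] at this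
    exact absurd (LL_le ((mul_mem_cancel_left (X.d_mem (List.mem_cons_of_mem _ hd))).1 this)) (H.al_not_mem X)

theorem Hyp.syl_LL (H : Hyp ψ) : IsSylowIn 2 (TT ψ ⊓ LL ψ) (LL ψ) :=
  H.syl_TT.inf_of_le_normalizer LL_le' JJ_norm

/-- `L` has one class of involutions -/
theorem HB.one_class (H : HB ψ) (X : XD ψ x y) {z : G} (h : z ∈ LL ψ) (h1 : z ≠ 1) (h2 : z * z = 1) :
    ∃ k ∈ LL ψ, k * z * k⁻¹ = ψ (av 16) := by
  obtain ⟨k, hk, e⟩ := H.syl_LL.exists_conj_le (isPGroup_zpowers_two h2) (zpowers_le.2 h)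
  obtain ⟨d, hd, e⟩ := H.mem_TL X (e ⟨z, mem_zpowers z, rfl⟩)
  replace e : k * z * k⁻¹ = ψ d := e
  have k1 : ∀ d ∈ D8, d * d = 1 → d = 1 ∨ d = av 32 ∨ d = av 48 ∨ ∃ u ∈ D8, ∃ v ∈ rr 6 8 :: D8,
      v * u * d * (v * u)⁻¹ = av 16 := by decide +kernel
  rcases k1 d hd (H.inj (by rw [map_mul, ← e, DD.conj_conj_mul h2, map_one])) with rfl | rfl | rfl | ⟨u, hu, v, hv, e'⟩
  · exact absurd (conj_eq_one_iff.1 (e.trans (map_one ψ))) h1
  · exact ⟨x * k, mul_mem X.x_mem hk, by rw [← X.xp, ← e]; group⟩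
  · refine ⟨x⁻¹ * k, mul_mem (inv_mem X.x_mem) hk, ?_⟩
    calc _ = x⁻¹ * (k * z * k⁻¹) * x := by group
      _ = _ := by rw [e, ← X.xt]; group
  · refine ⟨ψ v * ψ u * k, mul_mem (mul_mem (X.d_mem hv) (X.d_mem (List.mem_cons_of_mem _ hu))) hk, ?_⟩
    rw [← e', map_mul, map_mul, map_inv, map_mul, ← e]; group

omit [Finite G] in
theorem le_c1_of_class {X : Subgroup G} {o t : G} (h : ∀ k ∈ X, Commute o (k * t * k⁻¹)) {z : G}
    (hz : ∃ k ∈ X, k * z * k⁻¹ = t) : Commute o z := by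
  obtain ⟨k, hk, rfl⟩ := hz
  simpa [mul_assoc] using h _ (inv_mem hk)

/-- `O(L) = 1` -/
theorem HB.oc_LL (H : HB ψ) (X : XD ψ x y) : O[LL ψ] = ⊥ := by
  have hn : JJ ψ ≤ N[O[LL ψ]] := JJ_norm.trans (normalizer_le_normalizer_piCoreOf _ _)
  have hJ : O[LL ψ] ≤ JJ ψ := (oc_le _).trans LL_le'
  have ho := odd_oc (LL ψ)
  generalize O[LL ψ] = O at hn hJ ho
  have h1 : ∀ o ∈ O, ψ (av 21) * o = o * ψ (av 21) → o = 1 := fun o h e => by
    obtain ⟨u, rfl⟩ := H.cent o e.symm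
    have k : ∀ a b, ee a b * ee 8 10 * (ee a b * ee 8 10) = 1 := by decide +kernel
    have k' : av 16 = ee 8 10 := by decide +kernel
    have h2 := mul_mem h (conj_mem_of_mem_normalizer (hn (w_mem_JJ (u := av 16) (by decide +kernel))) (inv_mem h))
    rw [a_inv, ← mul_assoc, ← mul_assoc] at h2
    have h3 := eq_one_of_odd_of_mul_self (odd_orderOf ho h2) (by
      rw [← map_inv, ← map_mul, ← map_mul, ← map_mul, ← map_mul, k', conj_ee, k, map_one])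
    have h4 : ψ u ∈ TT ψ := ⟨⟨hJ h, mem_c1.2 e.symm⟩, mem_c1_of_conj (by
      rwa [mul_eq_one_iff_eq_inv, a_inv] at h3)⟩
    obtain ⟨n, hn⟩ := IsPGroup.iff_orderOf.1 H.pg_TT ⟨_, h4⟩
    rw [← orderOf_coe] at hn
    exact orderOf_eq_one_iff.1 (Nat.Coprime.eq_one_of_dvd (Nat.Coprime.pow_right n
      (Nat.coprime_two_right.2 (odd_orderOf ho h))) hn.dvd)
  have h2 : ∀ o ∈ O, ψ (av 21) * o * (ψ (av 21))⁻¹ = o⁻¹ := fun o h =>
    BSW.inverts_of_fixedPointFree (a_sq _) (hn (w_mem_JJ (by decide +kernel))) h1 h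
  have h3 : x * ψ (av 21) * x⁻¹ = ψ (av 21) * ψ (av 32) := by
    rw [show (21 : Fin 64) = 5 ^^^ 16 by decide, ← a_mul, ← conj_mul, X.xt,
      (comm_of_fix (k := 4) X.xU (by decide +kernel)).eq, mul_inv_cancel_right, a_mul, a_mul, a_mul]
    rfl
  have h4 : ∀ o ∈ O, Commute o (ψ (av 32)) := fun o h => by
    have a := h2 _ (conj_mem_of_mem_normalizer' (hn X.xJ) h)
    have b : ψ (av 21) * ψ (av 32) * o * (ψ (av 21) * ψ (av 32))⁻¹ = ψ (av 21) * o * (ψ (av 21))⁻¹ := by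
      rw [h2 o h, ← h3]
      calc _ = x * (ψ (av 21) * (x⁻¹ * o * x) * (ψ (av 21))⁻¹) * x⁻¹ := by group
        _ = _ := by rw [a]; group
    refine (mul_inv_eq_iff_eq_mul.1 ?_).symm
    calc _ = (ψ (av 21))⁻¹ * (ψ (av 21) * ψ (av 32) * o * (ψ (av 21) * ψ (av 32))⁻¹) * ψ (av 21) := by group
      _ = _ := by rw [b]; group
  have h5 : ∀ o ∈ O, ∀ k ∈ LL ψ, Commute o (k * ψ (av 16) * k⁻¹) := fun o h k hk => by
    have a := (h4 _ (conj_mem_of_mem_normalizer' (hn (mul_mem (LL_le' hk) X.xJ)) h)).eq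
    rw [← X.xp]
    show _ = _
    calc _ = k * x * ((k * x)⁻¹ * o * (k * x) * ψ (av 32)) * (k * x)⁻¹ := by group
      _ = _ := by rw [a]; group
  refine eq_bot_iff.2 fun o h => ?_
  have h6 : ∀ d ∈ D8, d ≠ 1 → d * d = 1 → Commute o (ψ d) := fun d hd a b => le_c1_of_class (h5 o h)
    (H.one_class X (X.d_mem (List.mem_cons_of_mem _ hd)) (fun e => a (H.inj (e.trans (map_one ψ).symm)))
      (by rw [← map_mul, b, map_one]))
  have h7 := (X.act2 H.toHyp (rr 4 8 * rr 4 6) (c := o) (JJ_comm (hJ h) (by decide +kernel))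
    (h6 _ (by decide +kernel) (by decide +kernel) (by decide +kernel))).2
  have h8 := (h7.mul_right ((JJ_comm (hJ h) (v := ee 0 4) (by decide +kernel)).mul_left
    (JJ_comm (hJ h) (by decide +kernel)))).mul_right ((h6 (ee 6 10) (by decide +kernel) (by decide +kernel)
      (by decide +kernel)).mul_left (h6 _ (by decide +kernel) (by decide +kernel) (by decide +kernel)))
  rw [← map_mul, ← map_mul, show _ * ee 0 4 * ee 6 10 = av 21 by decide +kernel] at h8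
  exact eq_one_of_odd_of_mul_self (odd_orderOf ho h) (h1 _ (mul_mem h h) h8.eq.symm)

theorem HB.simple_LL (H : HB ψ) (X : XD ψ x y) : IsSimpleGroup (LL ψ) := by
  have ht := X.d_mem (d := av 16) (by decide +kernel)
  have : Nontrivial (LL ψ) := ⟨⟨_, ht⟩, 1, fun e => H.a_ne (by decide) (congrArg Subtype.val e)⟩
  refine ⟨fun K hK => ?_⟩
  have hn : LL ψ ≤ N[K.map (LL ψ).subtype] := by
    conv_lhs => rw [← range_subtype (LL ψ), MonoidHom.range_eq_map, ← normalizer_eq_top K]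
    exact le_normalizer_map _
  by_cases h : ∀ z ∈ K.map (LL ψ).subtype, orderOf z ≠ 2
  · have := le_oc (map_subtype_le K) hn (odd_of_forall h)
    rw [H.oc_LL X, le_bot_iff, map_eq_bot_iff_of_injective _ (subtype_injective _)] at this
    exact Or.inl this
  push Not at h
  obtain ⟨z, hz, h2⟩ := h
  obtain ⟨k, hk, e⟩ := H.one_class X (map_subtype_le K hz) (by rintro rfl; simp at h2) (BSW.mul_self_of_orderOf_two h2)
  have h3 := e ▸ conj_mem_of_mem_normalizer (hn hk) hz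
  have h4 : LL ψ ≤ K.map (LL ψ).subtype := (closure_le _).2 fun g hg => by
    by_cases h1 : g = 1
    · exact h1 ▸ one_mem _
    obtain ⟨k, hk, e⟩ := H.one_class X (subset_closure hg) h1 hg.2
    simpa [← e, mul_assoc] using conj_mem_of_mem_normalizer' (hn hk) h3
  exact Or.inr (eq_top_iff.2 fun g _ => (mem_map_iff_mem (subtype_injective _)).1 (h4 g.2))

end Cfsg.Lib.D6
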