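import Cfsg.Agent.Lib.D6.AltA
import Cfsg.Agent.Lib.Alt.P1

/-!
# The alternating case: generation and recognition
-/

set_option autoImplicit false
set_option synthInstance.maxSize 8000
set_option maxRecDepth 100000

namespace Cfsg.Lib.D6
open Equiv Subgroup Cfsg.Lib.PC Cfsg.Lib.FT Cfsg.Lib.GW

attribute [local irreducible] av nn rr ee L ty lab R cm

variable {G : Type*} [Group G] {ψ : Wg →* G} {x y : G}

theorem comm_gen (k : ℕ) (h : ∀ p q : Fin 12, p.1 < 2 * k → q.1 < 2 * k → Commute x (ψ (rr p q))) {g : Wg}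
    (hg : ∀ i : Fin 12, 2 * k ≤ i.1 → g.1 i = i) : Commute x (ψ g) :=
  (mem_c1.1 (gen_W k (C1[x].comap ψ) (fun p q hp hq => mem_c1.2 (h p q hp hq).symm) g hg)).symm

theorem XD.actA (X : XD ψ x y) : Act ψ x X3 := fun c => by
  have k : ∀ c, ∃ d, (∀ i : Fin 12, 2 * 4 ≤ i.1 → (av d).1 i = i) ∧ ∃ e ∈ ([0, 16, 32, 48] : List (Fin 64)),
    c = d ^^^ e ∧ X3 c = d ^^^ X3 e := by decide +kernel
  obtain ⟨d, hd, e, he, rfl, h⟩ := k c
  rw [h, ← a_mul, ← a_mul, ← conj_mul, (comm_gen 4 X.xU hd).eq, mul_inv_cancel_right, mul_right_inj]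
  simp only [List.mem_cons, List.not_mem_nil, or_false] at he
  rcases he with rfl | rfl | rfl | rfl
  · rw [show X3 0 = 0 by decide, av_zero, map_one, mul_one, mul_inv_cancel]
  exacts [X.xt, X.xp, by rw [show (48 : Fin 64) = 16 ^^^ 32 by decide, ← a_mul, ← conj_mul, X.xt, X.xp, a_mul]; rfl]

theorem cen {M : Subgroup G} {n u v b : G} (h : C1[v] ≤ M) (hn : n ∈ M) (e : n * u * n⁻¹ = v) (hb : Commute u b) :
    b ∈ M := by
  have := h (mem_c1.2 (e ▸ cc.2 hb.symm))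
  rwa [mul_mem_cancel_right (inv_mem hn), mul_mem_cancel_left hn] at this

theorem HB.top [Finite G] (H : HB ψ) (X : XD ψ x y) {M : Subgroup G} (hW : ∀ w, ψ w ∈ M) (hx : x ∈ M)
    (hy : y ∈ M) : M = ⊤ := by
  have c21 : C1[ψ (av 21)] ≤ M := fun g hg => by obtain ⟨w, rfl⟩ := H.cent g (mem_c1.1 hg); exact hW w
  have c5 : C1[ψ (av 5)] ≤ M := fun g hg => by
    obtain ⟨h, h1, h2⟩ := X.fac g (mem_c1.1 hg).symm
    have k : ∀ i : Fin 12, 2 * 4 ≤ i.1 → (av 5).1 i = i := by decide +kernel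
    obtain ⟨h3, h4⟩ := (mem_inf (p := M) (p' := C1[ψ (av 5)])).1 <| (closure_le _).2 (by
      rintro _ (rfl | rfl | rfl | rfl)
      exacts [⟨hx, mem_c1.2 (comm_gen 4 X.xU k)⟩, ⟨hy, mem_c1.2 (comm_gen 4 X.yU k)⟩, ⟨hW _, mem_c1.2 (a_comm _ _)⟩,
        ⟨hW _, mem_c1.2 (a_comm _ _)⟩]) h1
    refine (mul_mem_cancel_left (inv_mem h3)).1 (c21 (mem_c1.2 ?_))
    rw [show (21 : Fin 64) = 5 ^^^ 16 by decide, ← a_mul]
    exact (Commute.mul_left (mem_c1.1 (mul_mem (inv_mem h4) hg)).symm h2).symm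
  have cls : ∀ u ∈ M, u * u = 1 → ∃ n ∈ M, ∃ c ∈ ([21, 5, 16, 0] : List (Fin 64)), n * u * n⁻¹ = ψ (av c) :=
    fun u hu h => by
    obtain ⟨k, hk, e⟩ := (H.sylS.mono (L := M) (by rintro _ ⟨w, -, rfl⟩; exact hW w) le_top).exists_conj_le
      (isPGroup_zpowers_two h) (zpowers_le.2 hu)
    obtain ⟨w, -, e⟩ := e ⟨u, mem_zpowers u, rfl⟩
    replace e : ψ w = k * u * k⁻¹ := e
    obtain ⟨n, hn, e1, e2⟩ := inv_conj hW hx X.actA (w := w) (H.inj (by rw [map_mul, e, conj_mul, h]; simp))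
    refine ⟨n * k, mul_mem hn hk, _, ?_, by rw [← e1, e]; group⟩
    revert e2; generalize n1 w = s; revert s; decide
  have back : ∀ g, g * ψ (av 5) * g⁻¹ ∈ M → g ∈ M := fun g hg => by
    obtain ⟨n, hn, c, hc, e⟩ := cls _ hg (by rw [conj_mul, a_sq]; simp)
    have k : ∀ c ∈ ([21, 5, 16, 0] : List (Fin 64)), n1 (av 5) = n1 (av c) → c = 5 := by decide +kernel
    obtain rfl := k c hc ((H.conj_iff (av_sq _) (av_sq _)).1 (cj g (.refl _) |>.trans (isConj_iff.2 ⟨n, e⟩)))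
    exact (mul_mem_cancel_left hn).1 (c5 (mem_c1.2 (mul_inv_eq_iff_eq_mul.1 (Eq.trans (by group) e))))
  have cu : ∀ u ∈ M, u * u = 1 → u ≠ 1 → ∀ b, Commute u b → b ∈ M ∨ ∃ n ∈ M, n * u * n⁻¹ = ψ (av 16) :=
    fun u hu h h1 b hb => by
    obtain ⟨n, hn, c, hc, e⟩ := cls u hu h
    simp only [List.mem_cons, List.not_mem_nil, or_false] at hc
    rcases hc with rfl | rfl | rfl | rfl
    exacts [Or.inl (cen c21 hn e hb), Or.inl (cen c5 hn e hb), Or.inr ⟨n, hn, e⟩,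
      absurd (by simpa [av_zero] using e) h1]
  have c4 : C1[ψ (av 4)] ≤ M := fun c hc => by
    refine (mul_mem_cancel_right (hW (nn 8))).1 (back _ ?_)
    rw [mul_inv_rev, mul_assoc c, mul_assoc c, ← mul_assoc _ _ c⁻¹, act_nn, show L 8 5 = 17 by decide +kernel,
      ← mul_assoc]
    by_contra hb
    let a : Fin 64 → C1[ψ (av 4)] := fun c => ⟨ψ (av c), mem_c1.2 (a_comm _ _)⟩
    have cj' : ∀ {u v : C1[ψ (av 4)]}, IsConj u v → IsConj u.1 v.1 ∧ IsConj (u.1 * ψ (av 4)) (v.1 * ψ (av 4)) :=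
      fun h => by
      obtain ⟨k, rfl⟩ := isConj_iff.1 h
      exact ⟨isConj_iff.2 ⟨k, rfl⟩, isConj_iff.2 ⟨k, by
        rw [← mul_assoc, mul_assoc _ (ψ _), ← mem_c1.1 (inv_mem k.2)]; simp [mul_assoc]⟩⟩
    obtain ⟨b1, b2⟩ := cj' (cj ⟨c, hc⟩ (.refl (a 17)))
    obtain ⟨⟨u, hu⟩, u1, u2, u3, u4, u5⟩ := dih (a := a 1) (b := ⟨c, hc⟩ * a 17 * ⟨c, hc⟩⁻¹) (Subtype.ext (a_sq _))
      (conj_sq (cj _ (.refl _)) (Subtype.ext (a_sq _))) fun h => absurd ((H.conj_iff (av_sq _) (av_sq _)).1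
        ((cj' h).1.trans b1.symm)) (by decide +kernel)
    replace u1 : u * u = 1 := congrArg Subtype.val u1
    replace u4 : Commute u (c * ψ (av 17) * c⁻¹) := (congrArg Subtype.val u4).symm
    have u6 : Commute u (ψ (av 4)) := mem_c1.1 hu
    have u7 : Commute u (ψ (av 5)) := by
      rw [show (5 : Fin 64) = 1 ^^^ 4 by decide, ← a_mul]
      exact Commute.mul_right (congrArg Subtype.val u3).symm u6
    have hM := c5 (mem_c1.2 u7)
    obtain ⟨n, -, e1⟩ := (cu u hM u1 (fun e => u2 (Subtype.ext e)) _ u4).resolve_left hb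
    have e2 : u * ψ (av 4) = 1 ∨ IsConj (u * ψ (av 4)) (ψ (av 16)) := or_iff_not_imp_left.2 fun h =>
      let ⟨n, _, e⟩ := (cu _ (mul_mem hM (hW _)) (by rw [u6.symm.mul_mul_mul_comm, u1, a_sq, one_mul]) h _
        (u4.mul_left (mem_c1.1 (mul_mem (mul_mem hc (a 17).2) (inv_mem hc))).symm)).resolve_left hb
      isConj_iff.2 ⟨n, e⟩
    obtain ⟨m, t', u', m1, m2, m3⟩ : ∃ m t' u', Commute m (ψ (av 5)) ∧ m * ψ (av 4) * m⁻¹ = ψ t' ∧
        m * u * m⁻¹ = ψ u' := by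
      by_cases e : u = ψ (av 4)
      · exact ⟨1, av 4, av 4, .one_left _, by simp, by simp [e]⟩
      have hf : Four (ψ (av 4)) u := ⟨H.a_ord (by decide), BSW.orderOf_two_of_mul_self
        (fun e => u2 (Subtype.ext e)) u1, e, u6⟩
      obtain ⟨m, hm, e⟩ := (H.sylS.mono (L := C1[ψ (av 5)]) (by
        rintro _ ⟨_, ⟨c, j, hj, rfl⟩, rfl⟩
        have k : ∀ j : Fin 24, j.1 < 8 → L j 5 = 5 := by decide +kernel
        exact mem_c1.2 (mul_inv_eq_iff_eq_mul.1 ((act_s c j 5).trans (by rw [k j hj])))) le_top).exists_conj_le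
        hf.isPGroup (four_le_iff.2 ⟨mem_c1.2 (a_comm _ _), mem_c1.2 u7⟩)
      obtain ⟨t', -, e1⟩ := e ⟨_, left_mem_four _ _, rfl⟩
      obtain ⟨u', -, e2⟩ := e ⟨_, right_mem_four _ _, rfl⟩
      exact ⟨m, t', u', mem_c1.1 hm, e1.symm, e2.symm⟩
    have m4 : m * ψ (av 5) * m⁻¹ = ψ (av 5) := mul_inv_eq_iff_eq_mul.2 m1
    have n0 : ∀ {c z w}, IsConj (ψ (av c)) z → m * z * m⁻¹ = ψ w → n1 w = n1 (av c) := fun h e =>
      H.n1_eq (av_sq _) (e ▸ cj m h)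
    have s0 : ∀ {z w}, z * z = 1 → m * z * m⁻¹ = ψ w → w * w = 1 := fun h e =>
      H.inj (by rw [map_mul, ← e, conj_mul, h]; simp)
    have m5 : m * ψ (av 1) * m⁻¹ = ψ (av 5 * t') := by rw [map_mul, ← m2, ← m4, conj_mul, a_mul]; rfl
    have n1' := n0 (.refl _) m5
    have n2 := n0 (c := 16) (isConj_iff.2 ⟨n, e1⟩).symm m3
    have m6 : m * (u * ψ (av 4)) * m⁻¹ = ψ (u' * t') := by rw [map_mul, ← m2, ← m3, conj_mul]
    have n3 : u' * t' = 1 ∨ n1 (u' * t') = n1 (av 16) := e2.imp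
      (fun e => H.inj (by rw [← m6, e]; simp)) fun e => n0 e.symm m6
    have m7 : m * (ψ (av 1) * u) * m⁻¹ = ψ (av 5 * t' * u') := by rw [map_mul, ← m5, ← m3, conj_mul]
    have m8 : m * (ψ (av 1) * u * ψ (av 4)) * m⁻¹ = ψ (av 5 * u') := by
      rw [map_mul, ← m4, ← m3, conj_mul, mul_assoc (ψ _), u6.eq, ← mul_assoc (ψ _), a_mul]; rfl
    have n4 : n1 (av 5 * t' * u') = n1 (av 1) ∧ n1 (av 5 * u') = n1 (av (1 ^^^ 4)) ∨
        n1 (av 5 * t' * u') = n1 (av 17) ∧ n1 (av 5 * u') = n1 (av (17 ^^^ 4)) := u5.imp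
      (fun h => ⟨n0 (cj' h.1).1 m7, n0 (a_mul (ψ := ψ) 1 4 ▸ (cj' h.1).2) m8⟩)
      fun h => ⟨n0 (b1.trans (cj' h.1).1) m7, n0 (a_mul (ψ := ψ) 17 4 ▸ b2.trans (cj' h.1).2) m8⟩
    have h8 : n1 (av 4) = 8 ∧ n1 (av 16) = 8 := by decide +kernel
    rcases n1_eight (s0 (a_sq _) m2) ((n0 (.refl _) m2).trans h8.1) with ⟨i, rfl⟩ | ⟨p, q, rfl⟩
    · revert n1'; clear * -; revert i; decide +kernel
    rcases n1_eight (s0 u1 m3) (n2.trans h8.2) with ⟨i, rfl⟩ | ⟨r, s, rfl⟩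
    · revert n1' n3 n4; clear * -; revert p q i; decide +kernel
    · revert n1' n2 n3 n4; clear * -; revert p q r s; decide +kernel
  refine eq_top_iff.2 fun g _ => back g ?_
  obtain ⟨u, u1, u2, u3, u4, -⟩ := dih (a := ψ (av 21)) (b := g * ψ (av 5) * g⁻¹) (a_sq _)
    (conj_sq (cj _ (.refl _)) (a_sq _)) fun h => absurd (H.not_conj (by decide) (by decide)
      (h.trans (cj g (.refl _)).symm)) (by decide)
  refine (cu u (c21 (mem_c1.2 u3.symm)) u1 u2 _ u4.symm).elim id fun ⟨n, hn, e⟩ =>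
    cen c4 (mul_mem (hW (nn 8)) hn) ?_ u4.symm
  rw [← show L 8 16 = 4 by decide +kernel, ← act_nn, ← e]; group

/-- moves `8` to `c` -/
def mv (c : Fin 12) : Wg := if c = 9 then ee 6 8 else rr c 8

/-- the 3-cycles -/
def xc (ψ : Wg →* G) (x : G) (c : Fin 12) : G := ψ (mv c) * x * (ψ (mv c))⁻¹

theorem mv_spec : ∀ c : Fin 12, c.1 < 10 → (mv c).1 8 = c ∧ (mv c).1 10 = 10 := by decide +kernel

theorem fix_lt {g : Wg} (hg : g.1 10 = 10) {c : Fin 12} (hc : c.1 < 10) : (g.1 c).1 < 10 := by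
  have k : ∀ d : Fin 12, d.1 < 10 ↔ d ≠ 10 ∧ d ≠ bar 10 := by decide
  rw [k] at hc ⊢
  rw [← hg, ← W_bar]
  exact ⟨g.1.injective.ne hc.1, g.1.injective.ne hc.2⟩

namespace XD
variable (X : XD ψ x y)
include X

theorem xc_eq {g : Wg} (hg : g.1 10 = 10) : xc ψ x (g.1 8) = ψ g * x * (ψ g)⁻¹ := by
  obtain ⟨h1, h2⟩ := mv_spec _ (fix_lt hg (c := 8) (by decide))
  have k : ∀ i : Fin 12, 2 * 4 ≤ i.1 → i = 8 ∨ i = bar 8 ∨ i = 10 ∨ i = bar 10 := by decide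
  have := comm_gen 4 X.xU (g := g⁻¹ * mv (g.1 8)) fun i hi => by
    rw [coe_mul, coe_inv, Perm.mul_apply, Perm.inv_eq_iff_eq]
    rcases k i hi with rfl | rfl | rfl | rfl <;> simp only [W_bar, h1, h2, hg]
  rw [xc, ← mul_inv_cancel_left (ψ g) (ψ (mv _)), ← map_inv, ← map_mul, mul_assoc (ψ g), ← this.eq]
  simp [mul_assoc]

theorem xc_sq (h : (x * ψ (rr 6 8)) ^ 4 = 1) {c d : Fin 12} (hc : c.1 < 10) (hd : d.1 < 10) (e : c ≠ d) :
    (xc ψ x c * xc ψ x d) ^ 2 = 1 := by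
  have k : ∀ c d : Fin 12, c.1 < 10 → d.1 < 10 → c ≠ d → ∃ a, ∃ k ∈ [rr a 6, ee 0 6], ∃ s ∈ [rr 6 8, ee 6 8],
    (mv c * k).1 10 = 10 ∧ (mv c * k * s).1 10 = 10 ∧ c = (mv c * k).1 8 ∧ d = (mv c * k * s).1 8 := by decide +kernel
  obtain ⟨a, k, -, s, hs, e1, e2, e3, e4⟩ := k c d hc hd e
  rw [e3, e4, X.xc_eq e1, X.xc_eq e2, map_mul ψ _ s, mul_inv_rev, mul_assoc _ (ψ s), mul_assoc _ (_ * x),
    ← mul_assoc (_ * x), ← mul_assoc _ (_ * _⁻¹), conj_mul, conj_pow, conj_eq_one_iff]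
  simp only [List.mem_cons, List.not_mem_nil, or_false] at hs
  rcases hs with rfl | rfl
  · rw [← map_inv, show (rr 6 8)⁻¹ = rr 6 8 by decide +kernel, ← h]; simp only [pow_succ]; group
  · rw [← map_inv, show (ee 6 8)⁻¹ = ee 6 8 by decide +kernel, ← mul_assoc, ← mul_assoc, X.xe, sq, a_sq]

theorem xc_y (h : Commute y (ψ (rr 6 8))) (hy : y ≠ 1) {c : Fin 12} (hc : c.1 < 10) : (xc ψ x c * y) ^ 2 = 1 := by
  have k : ∀ p q : Fin 12, p.1 < 2 * 5 → q.1 < 2 * 5 → p.1 < 8 ∧ q.1 < 8 ∨ rr p q = 1 ∨ rr p q = rr 6 8 * ee 6 8 ∨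
    ∃ a : Fin 12, a.1 < 8 ∧ rr p q = rr a 6 * rr 6 8 * rr a 6 := by decide +kernel
  have k2 : ∀ c : Fin 12, c.1 < 10 → ∀ i : Fin 12, 2 * 5 ≤ i.1 → (mv c).1 i = i := by decide +kernel
  have := comm_gen 5 (x := y) (fun p q hp hq => by
    rcases k p q hp hq with e | e | e | ⟨a, ha, e⟩
    exacts [X.yU p q e.1 e.2, by simp [e], by simpa only [e, map_mul] using h.mul_right X.ye, by
      simpa only [e, map_mul] using ((X.yU a 6 ha (by decide)).mul_right h).mul_right (X.yU a 6 ha (by decide))])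
    (k2 c hc)
  rw [xc, ← mul_inv_cancel_right y (ψ (mv c)), this.eq, conj_mul, conj_pow, X.xy hy]; simp

theorem gen {M : Subgroup G} (h : ∀ c : Fin 12, c.1 < 10 → xc ψ x c ∈ M) : x ∈ M ∧ ∀ w, ψ w ∈ M := by
  have h1 : ∀ c : Fin 12, c.1 < 10 → ψ (rr c 10) ∈ M := fun c hc => by
    have k : ∀ c : Fin 12, c.1 < 10 → (mv c * ee 6 8).1 10 = 10 ∧ rr c 10 = mv c * av 32 * (mv c)⁻¹ := by decide +kernel
    have := mul_mem (h c hc) (h _ (fix_lt (k c hc).1 (c := 8) (by decide)))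
    rw [X.xc_eq (k c hc).1, xc, map_mul, mul_inv_rev, ← map_inv ψ (ee 6 8), show (ee 6 8)⁻¹ = ee 6 8 by decide +kernel]
      at this
    rw [(k c hc).2, map_mul, map_mul, map_inv, ← X.xe]
    convert this using 1; group
  have k : ∀ a b, rr a b = 1 ∨ ∃ c : Fin 12, c.1 < 10 ∧ (rr a b = rr c 10 ∨
    ∃ d : Fin 12, d.1 < 10 ∧ rr a b = rr c 10 * rr d 10 * rr c 10) := by decide +kernel
  refine ⟨by simpa [xc, show mv 8 = 1 by decide +kernel] using h 8 (by decide), fun w =>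
    gen_W 6 (M.comap ψ) (fun p q _ _ => ?_) w fun i hi => by omega⟩
  rcases k p q with e | ⟨c, hc, e | ⟨d, hd, e⟩⟩ <;> rw [e]
  exacts [one_mem _, h1 c hc, mul_mem (mul_mem (h1 c hc) (h1 d hd)) (h1 c hc)]

end XD

theorem HB.iso [Finite G] (H : HB ψ) {n : ℕ} (hn : 5 ≤ n) (Ψ : alternatingGroup (Fin n) →* G) (h : Ψ.range = ⊤) :
    Nonempty (G ≃* alternatingGroup (Fin n)) := by
  have := alternatingGroup.isSimpleGroup (α := Fin n) (by simpa)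
  refine ⟨(MulEquiv.ofBijective Ψ ⟨(MonoidHom.ker_eq_bot_iff Ψ).1 (Ψ.normal_ker.eq_bot_or_eq_top.resolve_right
    fun e => ?_), MonoidHom.range_eq_top.1 h⟩).symm⟩
  obtain ⟨g, hg⟩ := h.ge (mem_top (ψ (av 21)))
  exact H.a_ne (by decide) (hg.symm.trans (e.ge (mem_top g)))

theorem HB.alt [Finite G] (H : HB ψ) (X : XD ψ x y) (h1 : (x * ψ (rr 6 8)) ^ 4 = 1) (h2 : Commute y (ψ (rr 6 8))) :
    Nonempty (G ≃* alternatingGroup (Fin 12)) ∨ Nonempty (G ≃* alternatingGroup (Fin 13)) := by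
  have h3 : ∀ c, xc ψ x c ^ 3 = 1 := fun c => by rw [xc, conj_pow, X.x3]; simp
  by_cases hy : y = 1
  · have k : ∀ c : Fin 12, c.1 < 10 ↔ c ≠ 10 ∧ c ≠ 11 := by decide
    obtain ⟨Ψ, h⟩ := Alt.carmichael (a := 10) (b := 11) (by decide) (xc ψ x) (fun c _ _ => h3 c)
      fun c d a1 a2 a3 a4 => X.xc_sq h1 ((k c).2 ⟨a1, a2⟩) ((k d).2 ⟨a3, a4⟩)
    obtain ⟨a, b⟩ := X.gen (M := Ψ.range) fun c hc => ⟨⟨_, Alt.sign_c3 (by decide) ((k c).1 hc).1.symm⟩,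
      h c ((k c).1 hc).1 ((k c).1 hc).2 _ rfl⟩
    exact Or.inl (H.iso (by decide) Ψ (H.top X b a (hy ▸ one_mem _)))
  · have k : ∀ c : Fin 12, c.1 < 10 ↔ c.castSucc ≠ 10 ∧ c.castSucc ≠ 11 := by decide
    obtain ⟨Ψ, h⟩ := Alt.carmichael (Ω := Fin 13) (a := 10) (b := 11) (by decide) (Fin.lastCases y (xc ψ x))
      (fun c _ _ => by
        induction c using Fin.lastCases <;> simp only [Fin.lastCases_last, Fin.lastCases_castSucc, h3, X.y3]) fun c d a1 a2 a3 a4 a5 => by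
      induction c using Fin.lastCases <;> induction d using Fin.lastCases <;>
        simp only [Fin.lastCases_last, Fin.lastCases_castSucc]
      · exact absurd rfl a5
      · rw [← conj_eq_one_iff (a := y⁻¹), ← X.xc_y h2 hy ((k _).2 ⟨a3, a4⟩), sq, sq]; group
      · exact X.xc_y h2 hy ((k _).2 ⟨a1, a2⟩)
      · exact X.xc_sq h1 ((k _).2 ⟨a1, a2⟩) ((k _).2 ⟨a3, a4⟩) fun e => a5 (e ▸ rfl)
    obtain ⟨a, b⟩ := X.gen (M := Ψ.range) fun c hc => ⟨⟨_, Alt.sign_c3 (by decide) ((k c).1 hc).1.symm⟩,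
      (h _ ((k c).1 hc).1 ((k c).1 hc).2 _ rfl).trans (Fin.lastCases_castSucc _)⟩
    exact Or.inr (H.iso (by decide) Ψ (H.top X b a ⟨⟨_, Alt.sign_c3 (c := Fin.last 12) (by decide) (by decide)⟩,
      (h _ (by decide) (by decide) _ rfl).trans Fin.lastCases_last⟩))

end Cfsg.Lib.D6
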