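import Cfsg.Agent.Lib.D6.Srch
import Cfsg.Agent.Lib.FT.GW.Tools
import Cfsg.Agent.Lib.ZStar.Main

/-!
# Fusion in `A` for a group with an involution centralizer `W(D₆)`
-/

set_option autoImplicit false
set_option synthInstance.maxSize 8000
set_option maxRecDepth 100000

namespace Cfsg.Lib.D6
open Equiv Subgroup Cfsg.Lib.PC Cfsg.Lib.FT Cfsg.Lib.GW

attribute [local irreducible] av nn rr ee L ty lab

variable {G : Type*} [Group G] {ψ : Wg →* G}

/-- the hypothesis -/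
structure Hyp (ψ : Wg →* G) : Prop where
  inj : Function.Injective ψ
  cent : ∀ g, g * ψ (av 21) = ψ (av 21) * g → ∃ w, ψ w = g
  syl : ¬ 2 ∣ ψ.range.index

/-- `n` normalizes `A` and acts as `f` -/
def Act (ψ : Wg →* G) (n : G) (f : Fin 64 → Fin 64) : Prop := ∀ c, n * ψ (av c) * n⁻¹ = ψ (av (f c))

theorem act_nn (j : Fin 24) : Act ψ (ψ (nn j)) (L j) := fun c => by rw [← nn_av, map_mul, map_mul, map_inv]

theorem Act.mul {n m : G} {f g : Fin 64 → Fin 64} (h : Act ψ n f) (h' : Act ψ m g) :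
    Act ψ (n * m) fun c => f (g c) := fun c => by rw [← h, ← h']; group

theorem Act.congr {n : G} {f g : Fin 64 → Fin 64} (h : Act ψ n f) (e : ∀ c, f c = g c) : Act ψ n g :=
  fun c => e c ▸ h c

theorem Act.isConj {n : G} {f : Fin 64 → Fin 64} (h : Act ψ n f) (c : Fin 64) : IsConj (ψ (av c)) (ψ (av (f c))) :=
  isConj_iff.2 ⟨n, h c⟩

theorem a_sq (c : Fin 64) : ψ (av c) * ψ (av c) = 1 := by rw [← map_mul, av_sq, map_one]
theorem a_mul (c d : Fin 64) : ψ (av c) * ψ (av d) = ψ (av (c ^^^ d)) := by rw [← map_mul, av_mul]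
theorem a_comm (c d : Fin 64) : ψ (av c) * ψ (av d) = ψ (av d) * ψ (av c) := by rw [a_mul, a_mul, xr_comm]
theorem a_inv (c : Fin 64) : (ψ (av c))⁻¹ = ψ (av c) := by rw [← map_inv, av_inv]
theorem al_comm' (x : Wg) : ψ x * ψ (av 21) = ψ (av 21) * ψ x := by rw [← map_mul, al_comm, map_mul]

theorem act_s (b : Fin 64) (j : Fin 24) : Act ψ (ψ (av b * nn j)) (L j) := fun c => by
  rw [← map_inv, ← map_mul, ← map_mul, ← nn_av]
  congr 1
  rw [nn_av, mul_inv_eq_iff_eq_mul, mul_assoc, nn_av', ← mul_assoc, av_comm, mul_assoc]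

namespace Hyp
variable (H : Hyp ψ)
include H

theorem ainj {c d : Fin 64} (h : ψ (av c) = ψ (av d)) : c = d := av_inj (H.inj h)

theorem a_ne {c : Fin 64} (h : c ≠ 0) : ψ (av c) ≠ 1 := fun e => h (H.ainj (by rw [e, av_zero, map_one]))

theorem a_ord {c : Fin 64} (h : c ≠ 0) : orderOf (ψ (av c)) = 2 :=
  orderOf_eq_prime (by rw [sq, a_sq]) (H.a_ne h)

theorem add {n : G} {f : Fin 64 → Fin 64} (h : Act ψ n f) (c d : Fin 64) : f (c ^^^ d) = f c ^^^ f d :=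
  H.ainj (by rw [← a_mul, ← h, ← h, ← h, ← a_mul]; group)

theorem finj {n : G} {f : Fin 64 → Fin 64} (h : Act ψ n f) : Function.Injective f := fun c d e =>
  H.ainj ((MulAut.conj n).injective ((h c).trans (e ▸ (h d).symm)))

theorem uniq {n : G} {f g : Fin 64 → Fin 64} (h : Act ψ n f) (h' : Act ψ n g) (c : Fin 64) : f c = g c :=
  H.ainj ((h c).symm.trans (h' c))

theorem act_inv {n : G} {f : Fin 64 → Fin 64} (h : Act ψ n f) :
    ∃ g, Act ψ n⁻¹ g ∧ (∀ c, g (f c) = c) ∧ ∀ c, f (g c) = c := by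
  let e := Equiv.ofBijective f (Finite.injective_iff_bijective.1 (H.finj h))
  refine ⟨e.symm, fun c => ?_, e.symm_apply_apply, e.apply_symm_apply⟩
  have := h (e.symm c)
  rw [show f (e.symm c) = c from e.apply_symm_apply c] at this
  rw [← this]; group

theorem stab {n : G} {f : Fin 64 → Fin 64} (h : Act ψ n f) (e : f 21 = 21) : ∃ j, ∀ c, f c = L j c := by
  obtain ⟨w, rfl⟩ := H.cent n (mul_inv_eq_iff_eq_mul.1 (by rw [h, e]))
  exact norm_A (x := w) fun c => H.inj (by rw [map_mul, map_mul, map_inv, h])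

variable [Finite G]

theorem sylS : IsSylowIn 2 (Sw.map ψ) ⊤ := by
  have h := syl_Sw.map ψ
  refine .of_not_dvd_relIndex le_top h.isPGroup fun hd => ?_
  rw [← relIndex_mul_relIndex _ _ _ h.le le_top, ← MonoidHom.range_eq_map, relIndex_top_right] at hd
  refine ((Nat.Prime.dvd_mul Nat.prime_two).1 hd).elim ?_ H.syl
  rw [MonoidHom.range_eq_map]; exact h.not_dvd_relIndex

/-- `A` is weakly closed -/
theorem wc {g : G} (h : ∀ c, g * ψ (av c) * g⁻¹ ∈ Sw.map ψ) : ∃ f, Act ψ g f := by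
  let B := ((Aw.map ψ).map (MulAut.conj g).toMonoidHom).comap ψ
  have h1 : (Aw.map ψ).map (MulAut.conj g).toMonoidHom ≤ Sw.map ψ := by
    rintro _ ⟨_, ⟨_, ⟨c, rfl⟩, rfl⟩, rfl⟩; exact h c
  have h2 : B = Aw := uniq_A ((comap_mono h1).trans (comap_map_eq_self_of_injective H.inj _).le)
    (fun x ⟨_, ⟨_, ⟨c, hc⟩, h1⟩, h2⟩ y ⟨_, ⟨_, ⟨d, hd⟩, h3⟩, h4⟩ => H.inj (by
      rw [map_mul, map_mul, ← h2, ← h4, ← h1, ← h3, ← hc, ← hd, ← map_mul, a_comm, map_mul])) (by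
      rw [← card_map_of_injective H.inj, map_comap_eq_self (h1.trans (map_le_range _ _)), card_map_conj,
        card_map_of_injective H.inj, card_Aw])
  have : ∀ c, ∃ d, g * ψ (av c) * g⁻¹ = ψ (av d) := fun c => by
    obtain ⟨w, -, e⟩ := h c
    have : w ∈ B := ⟨_, ⟨_, ⟨c, rfl⟩, rfl⟩, e.symm⟩
    obtain ⟨d, hd⟩ := h2.le this
    exact ⟨d, by rw [hd, e]⟩
  choose f hf using this
  exact ⟨f, hf⟩

omit H [Finite G] in
theorem pgA : IsPGroup 2 (Aw.map ψ) := (IsPGroup.of_card (n := 6) card_Aw).map ψ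

/-- `N(A)` controls fusion in `A` -/
theorem fus {c d : Fin 64} (h : IsConj (ψ (av c)) (ψ (av d))) : ∃ n f, Act ψ n f ∧ f c = d := by
  obtain ⟨g, hg⟩ := isConj_iff.1 h
  obtain ⟨P, hP, h1⟩ := exists_isSylowIn_ge (pgA (ψ := ψ)) (K := C1[ψ (av d)]) (by
    rintro _ ⟨_, ⟨e, rfl⟩, rfl⟩; exact mem_c1.2 (a_comm _ _))
  obtain ⟨k, hk, h2⟩ := hP.exists_conj_le ((pgA (ψ := ψ)).map (MulAut.conj g).toMonoidHom) (by
    rintro _ ⟨_, ⟨_, ⟨e, rfl⟩, rfl⟩, rfl⟩
    refine mem_c1.2 ?_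
    rw [← hg]
    calc _ = g * (ψ (av e) * ψ (av c)) * g⁻¹ := by simp [mul_assoc]
      _ = _ := by rw [a_comm]; simp [mul_assoc])
  obtain ⟨l, -, h3⟩ := H.sylS.exists_conj_le hP.isPGroup le_top
  obtain ⟨f1, e1⟩ := H.wc (g := l) fun c => h3 ⟨_, h1 ⟨_, ⟨c, rfl⟩, rfl⟩, rfl⟩
  obtain ⟨f2, e2⟩ := H.wc (g := l * k * g) fun c => by
    have := h3 ⟨_, h2 ⟨_, ⟨_, ⟨_, ⟨c, rfl⟩, rfl⟩, rfl⟩, rfl⟩, rfl⟩
    simpa [mul_assoc] using this
  obtain ⟨f3, e3, -⟩ := H.act_inv e1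
  refine ⟨_, _, e3.mul e2, H.ainj ?_⟩
  rw [← e3.mul e2 c]
  calc _ = k * (g * ψ (av c) * g⁻¹) * k⁻¹ := by group
    _ = _ := by rw [hg, mem_c1.1 hk]; group

/-- the three central involutions of the Sylow subgroup are not conjugate -/
theorem not_conj {c d : Fin 64} (hc : c ∈ [5, 16, 21]) (hd : d ∈ [5, 16, 21]) (h : IsConj (ψ (av c)) (ψ (av d))) :
    c = d := by
  obtain ⟨g, hg⟩ := isConj_iff.1 h
  obtain ⟨S, hS⟩ := H.sylS.exists_sylow_top
  have k1 : ∀ c : Fin 64, c ∈ [0, 5, 16, 21] ↔ ∀ j : Fin 24, j.1 < 8 → L j c = c := by decide +kernel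
  have hZ : ∀ c : Fin 64, ψ (av c) ∈ C[Sw.map ψ] ↔ c ∈ [0, 5, 16, 21] := fun c => by
    rw [k1]
    refine ⟨fun h j hj => H.ainj ?_, fun h => mem_centralizer_iff.2 ?_⟩
    · rw [← act_nn, mem_centralizer_iff.1 h _ ⟨_, nn_mem_Sw hj, rfl⟩]; group
    · rintro _ ⟨_, ⟨d, j, hj, rfl⟩, rfl⟩
      rw [← map_mul, ← map_mul, mul_assoc, nn_av', h j hj, ← mul_assoc, av_comm, mul_assoc]
  obtain ⟨n, hn, e⟩ := S.conj_eq_normalizer_conj_of_mem_centralizer (ψ (av c)) g⁻¹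
    (show _ ∈ C[(S : Subgroup G)] from hS ▸ (hZ c).2 (List.mem_cons_of_mem _ hc))
    (show _ ∈ C[(S : Subgroup G)] by rw [inv_inv, hg]; exact hS ▸ (hZ d).2 (List.mem_cons_of_mem _ hd))
  rw [inv_inv, hg] at e
  have hm : n⁻¹ ∈ N[Sw.map ψ] := hS ▸ inv_mem hn
  obtain ⟨f, hf⟩ := H.wc (g := n⁻¹) fun c => conj_mem_of_mem_normalizer hm ⟨_, av_mem_Sw c, rfl⟩
  have e1 : f c = d := H.ainj (by rw [← hf, inv_inv, e])
  have h0 : f 0 = 0 := by rw [← xr_self 0, H.add hf, xr_self, xr_self]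
  have h1 : ∀ c ∈ ([0, 5, 16, 21] : List (Fin 64)), f c ∈ [0, 5, 16, 21] := fun c hc => (hZ _).1 (by
    rw [← hf]
    refine mem_centralizer_iff.2 fun s hs => ?_
    have := mem_centralizer_iff.1 ((hZ c).2 hc) _ (conj_mem_of_mem_normalizer' hm hs)
    calc _ = n⁻¹ * (n⁻¹⁻¹ * s * n⁻¹ * ψ (av c)) * n := by group
      _ = _ := by rw [this]; group)
  have h5 : f 5 = 5 := by
    obtain ⟨_, ⟨b, j, hj, rfl⟩, e⟩ := conj_mem_of_mem_normalizer hm ⟨_, nn_mem_Sw (j := 6) (by decide), rfl⟩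
    have h3 : ∀ c, f (L 6 c) = L j (f c) := H.uniq (hf.mul (act_nn 6)) (by
      have := (act_s b j).mul hf
      rwa [e, inv_mul_cancel_right] at this)
    have k2 : ∀ j : Fin 24, j.1 < 8 → ∀ b, b ^^^ L j (L j b) ≠ 16 ∧ b ^^^ L j (L j b) ≠ 21 := by decide +kernel
    have h4 := k2 j hj (f 10)
    rw [← h3, ← h3, ← H.add hf, show 10 ^^^ L 6 (L 6 10) = 5 by decide +kernel] at h4
    have h6 := h1 5 (by decide)
    have h7 : f 5 ≠ 0 := h0 ▸ (H.finj hf).ne (by decide)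
    simpa [h4, h7] using h6
  have h21 : f 21 = 21 := by
    by_contra hne
    have h2 : ∀ c, c ≠ 0 → c ≠ 5 → f c ≠ 0 ∧ f c ≠ 5 := fun c a b =>
      ⟨h0 ▸ (H.finj hf).ne a, h5 ▸ (H.finj hf).ne b⟩
    have h3 : f 21 = 16 := by simpa [hne, h2 21 (by decide) (by decide)] using h1 21 (by decide)
    have h4 : f 16 = 21 := by
      simpa [h2 16 (by decide) (by decide), h3 ▸ (H.finj hf).ne (show 16 ≠ 21 by decide)] using h1 16 (by decide)
    have h6 : n⁻¹ * n⁻¹ ∈ C1[ψ (av 21)] := mem_c1.2 (mul_inv_eq_iff_eq_mul.1 (by rw [hf.mul hf 21]; simp only [h3, h4]))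
    obtain ⟨t, ht⟩ : Odd ((Sw.map ψ).relIndex N[Sw.map ψ]) := Nat.not_even_iff_odd.1 fun h =>
      (H.sylS.mono le_normalizer le_top).not_dvd_relIndex (even_iff_two_dvd.1 h)
    obtain ⟨w, -, hw⟩ : n⁻¹ ^ (2 * t + 1) ∈ Sw.map ψ := ht ▸ pow_relIndex_mem le_rfl hm
    have h7 : n⁻¹ ^ (2 * t + 1) ∈ C1[ψ (av 21)] := hw ▸ mem_c1.2 (al_comm' w)
    rw [pow_succ, pow_mul, sq, mul_mem_cancel_left (pow_mem h6 t)] at h7
    exact hne (H.ainj (by rw [← hf, mem_c1.1 h7]; group))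
  have h16 : f 16 = 16 := by rw [show (16 : Fin 64) = 5 ^^^ 21 by decide, H.add hf, h5, h21]
  simp only [List.mem_cons, List.not_mem_nil, or_false] at hc
  rcases hc with rfl | rfl | rfl <;> simp [← e1, h5, h16, h21]

omit H in
theorem exists_pm {O : Subgroup G} (h0 : O ≠ ⊥) (hn : ∀ c, ψ (av c) ∈ N[O]) : ∃ x ∈ O, x ≠ 1 ∧
    ∀ c, ψ (av c) * x * (ψ (av c))⁻¹ = x ∨ ψ (av c) * x * (ψ (av c))⁻¹ = x⁻¹ := by
  have key : ∀ l : List (Fin 64), ∃ O' ≤ O, O' ≠ ⊥ ∧ (∀ c, ψ (av c) ∈ N[O']) ∧ ∀ c ∈ l, ∀ x ∈ O',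
      ψ (av c) * x * (ψ (av c))⁻¹ = x ∨ ψ (av c) * x * (ψ (av c))⁻¹ = x⁻¹ := fun l => by
    induction l with
    | nil => exact ⟨O, le_rfl, h0, hn, by simp⟩
    | cons c l ih =>
      obtain ⟨P, h1, h2, h3, h4⟩ := ih
      by_cases h5 : P ⊓ C1[ψ (av c)] = ⊥
      · refine ⟨P, h1, h2, h3, List.forall_mem_cons.2 ⟨fun x hx => Or.inr ?_, h4⟩⟩
        exact BSW.inverts_of_fixedPointFree (a_sq c) (h3 c) (fun a ha e => h5.le ⟨ha, mem_c1.2 e.symm⟩) hx
      · refine ⟨_, inf_le_left.trans h1, h5, fun d => ?_, List.forall_mem_cons.2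
          ⟨fun x hx => Or.inl (by rw [← mem_c1.1 hx.2]; group), fun d hd x hx => h4 d hd x hx.1⟩⟩
        exact inf_normalizer_le_normalizer_inf ⟨h3 d, le_normalizer (mem_c1.2 (a_comm _ _))⟩
  obtain ⟨P, h1, h2, -, h4⟩ := key (List.finRange 64)
  obtain ⟨⟨x, hx⟩, hx1⟩ := ne_bot_iff_exists_ne_one.1 h2
  exact ⟨x, h1 hx, fun e => hx1 (Subtype.ext e), fun c => h4 c (List.mem_finRange c) x hx⟩

omit [Finite G] in
theorem pm_one {x : G} (ho : Odd (orderOf x)) (h : x * ψ (av 21) = ψ (av 21) * x)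
    (h5 : ∀ c, ψ (av c) * x * (ψ (av c))⁻¹ = x ∨ ψ (av c) * x * (ψ (av c))⁻¹ = x⁻¹) : x = 1 := by
  obtain ⟨w, rfl⟩ := H.cent x h
  rw [odd_A (x := w) (by rwa [← orderOf_injective ψ H.inj]) fun c => (h5 c).imp
    (fun e => H.inj (by rwa [a_inv, ← map_mul, ← map_mul] at e))
    (fun e => H.inj (by rw [map_mul, map_mul, map_inv, ← e, a_inv])), map_one]

/-- `A` normalizes no non-trivial subgroup of odd order -/
theorem odd_bot (h37 : IsConj (ψ (av 21)) (ψ (av 37))) {O : Subgroup G} (ho : Odd (Nat.card O))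
    (hn : ∀ c, ψ (av c) ∈ N[O]) : O = ⊥ := by
  by_contra h0
  obtain ⟨x, hx, hx1, h5⟩ := exists_pm h0 hn
  have hxo := odd_orderOf ho hx
  have h6 : ∀ d, IsConj (ψ (av 21)) (ψ (av d)) → ψ (av d) * x * (ψ (av d))⁻¹ = x⁻¹ := fun d hd =>
    (h5 d).resolve_left fun e => by
      obtain ⟨n, f, hf, e1⟩ := H.fus hd.symm
      obtain ⟨g, -, -, hg⟩ := H.act_inv hf
      refine hx1 (conj_eq_one_iff.1 (H.pm_one (x := n * x * n⁻¹) (((MulAut.conj n).orderOf_eq x).symm ▸ hxo) ?_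
        fun c => ?_))
      · rw [← e1, ← hf]
        calc _ = n * (ψ (av d) * x * (ψ (av d))⁻¹ * ψ (av d)) * n⁻¹ := by rw [e]; group
          _ = _ := by group
      · rw [← hg c, ← hf]
        refine (h5 (g c)).imp (fun e => ?_) fun e => ?_
        · conv_rhs => rw [← e]
          group
        · rw [show (n * x * n⁻¹)⁻¹ = n * x⁻¹ * n⁻¹ by group, ← e]; group
  have h7 : ∀ j, ψ (av (L j 37)) * x * (ψ (av (L j 37)))⁻¹ = x⁻¹ := fun j =>
    h6 _ (h37.trans ((act_nn j).isConj 37))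
  have h8 : ∀ c d e, ψ (av c) * x * (ψ (av c))⁻¹ = x⁻¹ → ψ (av d) * x * (ψ (av d))⁻¹ = x⁻¹ →
      ψ (av e) * x * (ψ (av e))⁻¹ = x⁻¹ → ψ (av (c ^^^ d ^^^ e)) * x * (ψ (av (c ^^^ d ^^^ e)))⁻¹ = x⁻¹ :=
    fun c d e h1 h2 h3 => by
      rw [← a_mul, ← a_mul]
      calc _ = ψ (av c) * (ψ (av d) * (ψ (av e) * x * (ψ (av e))⁻¹)⁻¹ * (ψ (av d))⁻¹)⁻¹ * (ψ (av c))⁻¹ := by group
        _ = _ := by rw [h3, inv_inv, h2, inv_inv, h1]
  have h9 := h8 _ _ _ (h8 _ _ _ (h8 _ _ _ (h6 21 (IsConj.refl _)) (h7 0) (h7 2)) (h7 8) (h7 10)) (h7 12) (h7 14)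
  rw [show 21 ^^^ L 0 37 ^^^ L 2 37 ^^^ L 8 37 ^^^ L 10 37 ^^^ L 12 37 ^^^ L 14 37 = 0 by decide +kernel, av_zero,
    map_one, one_mul, inv_one, mul_one] at h9
  exact hx1 (eq_one_of_odd_of_mul_self hxo (by nth_rewrite 2 [h9]; group))

/-- the case of an isolated involution -/
theorem isolated (h : IsIsolated (ψ (av 21))) : oddCore G ⊔ C1[ψ (av 21)] = ⊤ ∧ IsMulCommutative (oddCore G) := by
  have h1 := zstar (by rw [sq, a_sq]) h
  have ho := odd_card_oddCore (G := G)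
  have h0 : oddCore G ⊓ C1[ψ (av 21)] = ⊥ := by
    by_contra h0
    obtain ⟨x, hx, hx1, h5⟩ := exists_pm (ψ := ψ) h0 fun c => inf_normalizer_le_normalizer_inf
      ⟨le_normalizer_of_normal (mem_top _), le_normalizer (mem_c1.2 (a_comm _ _))⟩
    exact hx1 (H.pm_one (odd_orderOf ho hx.1) (mem_c1.1 hx.2) h5)
  have h2 : ∀ x ∈ oddCore G, ψ (av 21) * x * (ψ (av 21))⁻¹ = x⁻¹ := fun x hx =>
    BSW.inverts_of_fixedPointFree (a_sq _) (le_normalizer_of_normal (mem_top _))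
      (fun a ha e => h0.le ⟨ha, mem_c1.2 e.symm⟩) hx
  refine ⟨eq_top_iff.2 fun g _ => ?_, ⟨⟨fun x y => Subtype.ext (inv_injective ?_)⟩⟩⟩
  · have h3 := h1 g
    obtain ⟨k, hk⟩ := odd_orderOf ho h3
    have h4 := h2 _ (pow_mem h3 (k + 1))
    set x := g * ψ (av 21) * g⁻¹ * (ψ (av 21))⁻¹ with hx
    have h5 : x ^ (k + 1) * x ^ (k + 1) = x := by
      rw [← pow_add, show k + 1 + (k + 1) = 2 * k + 1 + 1 by ring, ← hk, pow_succ, pow_orderOf_eq_one, one_mul]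
    rw [← mul_inv_cancel_left (x ^ (k + 1)) g]
    refine mul_mem (mem_sup_left (pow_mem h3 _)) (mem_sup_right (mem_c1_of_conj ?_))
    calc _ = (x ^ (k + 1))⁻¹ * x * (ψ (av 21) * x ^ (k + 1) * (ψ (av 21))⁻¹) * ψ (av 21) := by rw [hx]; group
      _ = _ := by rw [h4]; nth_rewrite 2 [← h5]; group
  · rw [coe_mul, coe_mul, ← h2 _ (mul_mem x.2 y.2), mul_inv_rev, ← h2 _ x.2, ← h2 _ y.2]; group

end Hyp

theorem ty_conj (c : Fin 64) : IsConj (ψ (av (rep (ty c)))) (ψ (av c)) := by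
  have k : ∀ c, ∃ j, L j (rep (ty c)) = c := by decide +kernel
  obtain ⟨j, e⟩ := k c
  simpa only [e] using (act_nn (ψ := ψ) j).isConj (rep (ty c))

def xr (c d : Fin 64) : Fin 64 := c ^^^ d
instance : Std.Commutative xr := ⟨xr_comm⟩
instance : Std.Associative xr := ⟨fun a b c => av_inj (by simp only [xr, ← av_mul, mul_assoc])⟩

theorem Hyp.six [Finite G] (H : Hyp ψ) (h : ¬ IsIsolated (ψ (av 21))) :
    ¬ (IsConj (ψ (av 21)) (ψ (av 37)) ↔ IsConj (ψ (av 21)) (ψ (av 48))) := fun h1 => h fun g hg => by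
  classical
  obtain ⟨w, hw⟩ := H.cent _ hg.symm
  obtain ⟨k, c, rfl⟩ := inv_A (x := w) (H.inj (by rw [map_mul, hw, conj_mul, a_sq, map_one]; group))
  obtain ⟨n, f, hf, e⟩ := H.fus (c := 21) (d := c) ((isConj_iff.2 ⟨g, hw.symm⟩).trans (isConj_iff.2 ⟨ψ k⁻¹, by
    simp [mul_assoc]⟩))
  let O := Finset.univ.filter fun c => IsConj (ψ (av 21)) (ψ (av c))
  have h2 : O.image f = O := Finset.eq_of_subset_of_card_le (fun x hx => by
    obtain ⟨y, hy, rfl⟩ := Finset.mem_image.1 hx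
    exact Finset.mem_filter.2 ⟨Finset.mem_univ _, (Finset.mem_filter.1 hy).2.trans (hf.isConj y)⟩)
    (Finset.card_image_of_injective _ (H.finj hf)).ge
  have h0 : f 0 = 0 := by rw [← xr_self 0, H.add hf, xr_self, xr_self]
  have h3 : f (O.fold xr 0 id) = O.fold xr 0 id := by
    rw [← Finset.fold_hom (op := xr) (op' := xr) (H.add hf), h0]
    conv_rhs => rw [← h2, Finset.fold_image (H.finj hf).injOn]
    rfl
  let β : ℕ → Bool := fun t => decide (IsConj (ψ (av 21)) (ψ (av (rep t))))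
  have k1 : ∀ b2 b6 b7 b8 b9 b10 : Bool, (Finset.univ.filter fun c =>
      [false, true, b2, false, false, b2, b6, b7, b8, b9, b10].getD (ty c) false = true).fold xr 0 id = 21 := by
    decide +kernel
  have k2 : ∀ c, ty c < 11 := by decide +kernel
  have h4 : O = Finset.univ.filter fun c =>
      [false, true, β 2, false, false, β 2, β 6, β 7, β 8, β 9, β 10].getD (ty c) false = true :=
    Finset.filter_congr fun c _ => by
      have : IsConj (ψ (av 21)) (ψ (av c)) ↔ β (ty c) = true := by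
        rw [decide_eq_true_iff]
        exact ⟨fun h => h.trans (ty_conj c).symm, fun h => h.trans (ty_conj c)⟩
      rw [this]
      have h5 : β 0 = false := decide_eq_false fun h => H.a_ne (c := 21) (by decide) (by
        simpa [rep, av_zero] using h)
      have h6 : β 1 = true := decide_eq_true (IsConj.refl _)
      have h7 : β 3 = false := decide_eq_false fun h => by
        simpa using H.not_conj (c := 21) (d := 16) (by decide) (by decide) h
      have h8 : β 4 = false := decide_eq_false fun h => by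
        simpa using H.not_conj (c := 21) (d := 5) (by decide) (by decide) h
      have h9 : β 5 = β 2 := decide_eq_decide.2 h1.symm
      have := k2 c
      generalize ty c = t at *
      interval_cases t <;> simp [h5, h6, h7, h8, h9]
  rw [h4, k1] at h3
  rw [← hw, ← e, h3, al_comm, mul_inv_cancel_right]

def hf (p : Fin 12) : Fin 6 := ⟨p.1 / 2, by omega⟩
def db (i : Fin 6) : Fin 12 := ⟨2 * i.1, by omega⟩

/-- the action on the six pairs -/
@[reducible] def actP : MulAction Wg (Fin 6) where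
  smul w i := hf (w.1 (db i))
  one_smul := by decide +kernel
  mul_smul x y i := by
    have k : ∀ p, db (hf p) = p ∨ db (hf p) = bar p := by decide +kernel
    have k2 : ∀ p, hf (bar p) = hf p := by decide +kernel
    change hf (x.1 (y.1 (db i))) = hf (x.1 (db (hf (y.1 (db i)))))
    rcases k (y.1 (db i)) with e | e <;> simp only [e, W_bar, k2]

def chi : Wg →* ℤˣ := Perm.sign.comp (@MulAction.toPermHom _ _ _ actP)

theorem chi_al : chi (av 21) = 1 := by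
  rw [chi, MonoidHom.comp_apply, show @MulAction.toPermHom _ _ _ actP (av 21) = 1 by decide +kernel, map_one]

theorem chi_37 : chi (av 37) = -1 := by
  rw [chi, MonoidHom.comp_apply, show @MulAction.toPermHom _ _ _ actP (av 37) = swap 4 5 by decide +kernel,
    Perm.sign_swap (by decide)]

/-- the twisting automorphism -/
def tw : Wg →* Wg := MonoidHom.mk' (fun w => if chi w = 1 then w else w * av 21) fun x y => by
  rcases Int.units_eq_one_or (chi x) with e | e <;> rcases Int.units_eq_one_or (chi y) with e' | e' <;>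
    simp [e, e', mul_assoc, ← al_comm, av_sq]

theorem tw_tw (w : Wg) : tw (tw w) = w := by
  change (if chi (if chi w = 1 then w else _) = 1 then (if chi w = 1 then w else _) else
    (if chi w = 1 then w else _) * _) = w
  rcases Int.units_eq_one_or (chi w) with e | e <;> simp [e, chi_al, mul_assoc, av_sq]

theorem tw_al : tw (av 21) = av 21 := by
  change (if chi (av 21) = 1 then av 21 else av 21 * av 21) = _
  rw [if_pos chi_al]

theorem tw_37 : tw (av 37) = av 48 := by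
  change (if chi (av 37) = 1 then av 37 else av 37 * av 21) = _
  rw [if_neg (by rw [chi_37]; decide), av_mul]; rfl

theorem Hyp.twist (H : Hyp ψ) : Hyp (ψ.comp tw) where
  inj := H.inj.comp (Function.LeftInverse.injective tw_tw)
  cent g hg := by
    obtain ⟨w, rfl⟩ := H.cent g (by simpa only [MonoidHom.comp_apply, tw_al] using hg)
    exact ⟨tw w, by rw [MonoidHom.comp_apply, tw_tw]⟩
  syl := by
    rw [MonoidHom.range_comp, MonoidHom.range_eq_top.2 (Function.RightInverse.surjective tw_tw),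
      ← MonoidHom.range_eq_map]
    exact H.syl

theorem Hyp.exists_F [Finite G] (H : Hyp ψ) (h37 : IsConj (ψ (av 21)) (ψ (av 37)))
    (h48 : ¬ IsConj (ψ (av 21)) (ψ (av 48))) : ∃ t ∈ [0, 1, 2], ∃ g, Act ψ g (Fb t) := by
  have hl : ∀ c, lab c ≠ 0 → IsConj (ψ (av ([0, 21, 16, 5, 48].getD (lab c) 0))) (ψ (av c)) := fun c hc => by
    have k : ∀ c, lab c ≠ 0 → [0, 21, 16, 5, 48].getD (lab c) 0 = rep (ty c) ∨
      [0, 21, 16, 5, 48].getD (lab c) 0 = (21 : Fin 64) ∧ rep (ty c) = 37 := by decide +kernel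
    rcases k c hc with e | ⟨e, e'⟩
    · rw [e]; exact ty_conj c
    · rw [e]; exact h37.trans (e' ▸ ty_conj c)
  have hB : ∀ n h, Act ψ n h → ¬ Bad h := by
    rintro n h hh (⟨c, hc⟩ | ⟨e, hc⟩)
    · have h1 := fun a b => ((hl c a).trans (hh.isConj c)).trans (hl _ b).symm
      have h2 := fun c d hc hd => H.not_conj (c := c) (d := d) hc hd
      have k : ∀ a < 8, ∀ b < 8, tb 8691260416 (8 * a + b) = true →
        (a, b) ∈ [(1, 2), (1, 3), (2, 3), (1, 4), (2, 1), (3, 1), (3, 2), (4, 1)] := by decide +kernel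
      have k2 : ∀ c, lab c < 8 := by decide +kernel
      replace hc := k _ (k2 _) _ (k2 _) hc
      simp only [List.mem_cons, Prod.mk.injEq, List.not_mem_nil, or_false] at hc h2
      rcases hc with ⟨a, b⟩ | ⟨a, b⟩ | ⟨a, b⟩ | ⟨a, b⟩ | ⟨a, b⟩ | ⟨a, b⟩ | ⟨a, b⟩ | ⟨a, b⟩ <;>
        have h3 := h1 (by omega) (by omega) <;> rw [a, b] at h3 <;>
        first | exact h48 h3 | exact h48 h3.symm | exact absurd (h2 _ _ (by decide) (by decide) h3) (by decide)
    · obtain ⟨j, hj⟩ := H.stab hh e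
      exact (hc j).elim fun c => absurd (hj c)
  obtain ⟨h, f, hf, e⟩ := H.fus h37
  obtain ⟨f', hf', e1, e2⟩ := H.act_inv hf
  have h0 : ∀ j ∈ ([1, 4, 5] : List (Fin 24)), ∃ i, (∀ c, f' (L j (f c)) = L i c) ∧ L i (f' 21) = f' 21 := fun j hj => by
    have k : ∀ j ∈ ([1, 4, 5] : List (Fin 24)), L j 37 = 37 ∧ L j 21 = 21 := by decide +kernel
    obtain ⟨i, hi⟩ := H.stab (hf'.mul ((act_nn j).mul hf)) (by simp only [e, (k j hj).1]; rw [← e, e1])
    exact ⟨i, hi, by rw [← hi]; simp only [e2, (k j hj).2]⟩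
  obtain ⟨i1, a1, b1⟩ := h0 1 (by decide)
  obtain ⟨i4, a4, b4⟩ := h0 4 (by decide)
  obtain ⟨i5, a5, b5⟩ := h0 5 (by decide)
  have k1 : ∀ i : Fin 24, (∀ c, L i (L i c) = c) ∧ i ≠ 0 → ∀ j : Fin 24, (∀ c, L j (L j c) = c) ∧ j ≠ 0 →
      ∀ k : Fin 24, (∀ c, L i (L j c) = L k c) → (∀ c, L k (L k c) = c) ∧ k ≠ 0 → ∀ c, L i c = c → L j c = c →
      c = 0 ∨ lab c ≠ 0 := by decide +kernel
  have k2 : ∀ j ∈ ([1, 4, 5] : List (Fin 24)), (∀ c, L j (L j c) = c) ∧ L j 2 ≠ 2 := by decide +kernel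
  have h1 : ∀ j ∈ ([1, 4, 5] : List (Fin 24)), ∀ i, (∀ c, f' (L j (f c)) = L i c) → (∀ c, L i (L i c) = c) ∧ i ≠ 0 :=
    fun j hj i hi => ⟨fun c => by rw [← hi, ← hi, e2, (k2 j hj).1, e1], fun e => (k2 j hj).2 (by
      have := congrArg f (hi (f' 2))
      rwa [e2, e2, e, L_zero, e2] at this)⟩
  have h2 := k1 i1 (h1 1 (by decide) _ a1) i4 (h1 4 (by decide) _ a4) i5 (fun c => by
    have k : ∀ c, L 1 (L 4 c) = L 5 c := by decide +kernel
    rw [← a1, ← a4, e2, k, a5]) (h1 5 (by decide) _ a5) _ b1 b4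
  obtain ⟨j, hj⟩ : ∃ j, L j 37 = f' 21 := by
    have k : ∀ c : Fin 64, c = 0 ∨ lab c ≠ 0 → c = 0 ∨ c = 21 ∨ (∃ j, L j 37 = c) ∨
      tb 8691260416 (8 * lab 21 + lab c) = true := by decide +kernel
    rcases k _ h2 with h | h | h | h
    · have := hf'.isConj 21
      rw [h, av_zero, map_one, isConj_one_left] at this
      exact absurd this (H.a_ne (by decide))
    · exact absurd (e.symm.trans (h ▸ e2 21)) (by decide)
    · exact h
    · exact absurd (Or.inl ⟨21, h⟩) (hB _ _ hf')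
  have k3 : ∀ j, L j 21 = 21 := by decide +kernel
  obtain ⟨g, F, hF, p1, p2⟩ : ∃ g F, Act ψ g F ∧ F 21 = 37 ∧ F 37 = 21 :=
    ⟨_, _, hf.mul (act_nn j), by simp only [k3, e], by simp only [hj, e2]⟩
  obtain ⟨F', hF', q1, q2⟩ := H.act_inv hF
  have h3 : ∀ j, L j 37 = 37 → ∃ i ∈ ([0, 1, 4, 5] : List (Fin 24)), ∀ c, F (L j c) = L i (F c) := fun j hj => by
    obtain ⟨i, hi⟩ := H.stab (hF.mul ((act_nn j).mul hF')) (by simp only [← p2, q1]; rw [hj])
    have k : ∀ i, L i 37 = 37 → i ∈ ([0, 1, 4, 5] : List (Fin 24)) := by decide +kernel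
    exact ⟨i, k i (by rw [← hi]; simp only [← p1, q1, k3]), fun c => by rw [← hi]; simp only [q1]⟩
  obtain ⟨j, hj, r1⟩ := h3 4 (by decide +kernel)
  obtain ⟨k, hk, r2⟩ := h3 1 (by decide +kernel)
  have ad := H.add hF
  have el := eq_lin ad
  have h0 : F 0 = 0 := by rw [← xr_self 0, ad, xr_self, xr_self]
  have h4 := search hj hk (fun e => absurd (H.finj hF ((r1 2).trans (by rw [e, L_zero]))) (by decide +kernel))
    (fun e => absurd (H.finj hF ((r2 2).trans (by rw [e, L_zero]))) (by decide +kernel))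
    (fun e => absurd (H.finj hF ((r1 2).trans (by rw [e, r2]))) (by decide +kernel)) (F 2)
  have u1 : F 2 ^^^ L k (F 2) = F 1 := by rw [← r2, ← ad]; exact congrArg F (by decide +kernel)
  have u2 : L j (F 1) = F 4 := by rw [← r1]; exact congrArg F (by decide +kernel)
  have u3 : L j (F 2) = F 8 := by rw [← r1]; exact congrArg F (by decide +kernel)
  have u4 : 21 ^^^ F 1 ^^^ F 4 = F 32 := by rw [← p2, ← ad, ← ad]; exact congrArg F (by decide +kernel)
  have u5 : 48 ^^^ F 32 = F 16 := by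
    rw [show (48 : Fin 64) = F 21 ^^^ F 37 by rw [p1, p2]; decide, ← ad, ← ad]; exact congrArg F (by decide +kernel)
  rw [u1, u2, u3, u4, u5] at h4
  rw [force_eq, ap_code, ← funext el, decide_eq_true_iff] at h4
  rcases h4 r1 r2 (fun x e => H.finj hF (by rw [e, h0])) with ⟨t, ht, i, -, h⟩ | ⟨w, -, h⟩
  · exact ⟨t, ht, _, (hF.mul (act_nn i)).congr h⟩
  · have : ∃ n, Act ψ n (ev F w) := by
      clear h
      induction w with
      | nil => exact ⟨g, hF⟩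
      | cons j w ih => obtain ⟨n, hn⟩ := ih; exact ⟨_, hF.mul ((act_nn j).mul hn)⟩
    exact absurd h (hB _ _ this.choose_spec)

theorem Hyp.cases [Finite G] (H : Hyp ψ) (h : ¬ IsIsolated (ψ (av 21))) :
    ∃ φ : Wg →* G, Hyp φ ∧ ∃ t ∈ [0, 1, 2], ∃ g, Act φ g (Fb t) := by
  by_cases h1 : IsConj (ψ (av 21)) (ψ (av 37))
  · exact ⟨ψ, H, H.exists_F h1 fun h2 => H.six h (iff_of_true h1 h2)⟩
  · have h2 : IsConj ((ψ.comp tw) (av 21)) ((ψ.comp tw) (av 37)) := by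
      rw [MonoidHom.comp_apply, MonoidHom.comp_apply, tw_al, tw_37]
      by_contra h2
      exact H.six h (iff_of_false h1 h2)
    refine ⟨_, H.twist, H.twist.exists_F h2 fun h3 => h1 ?_⟩
    rwa [MonoidHom.comp_apply, MonoidHom.comp_apply, tw_al, ← tw_37, tw_tw] at h3

end Cfsg.Lib.D6
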