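import Cfsg.Agent.Lib.D6.Fus
import Cfsg.Agent.Lib.TwoS.Base

/-!
# The symplectic case: fusion and the commuting graph
-/

set_option autoImplicit false
set_option synthInstance.maxSize 8000
set_option maxRecDepth 100000

namespace Cfsg.Lib.D6
open Equiv Subgroup Cfsg.Lib.PC Cfsg.Lib.FT Cfsg.Lib.GW

attribute [local irreducible] av nn rr ee L ty lab

variable {G : Type*} [Group G] {ψ : Wg →* G}

/-- two non-conjugate involutions -/
theorem dih [Finite G] {a b : G} (ha : a * a = 1) (hb : b * b = 1) (h : ¬ IsConj a b) :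
    ∃ u : G, u * u = 1 ∧ u ≠ 1 ∧ Commute a u ∧ Commute b u ∧
      (IsConj a (a * u) ∧ IsConj b (b * u) ∨ IsConj b (a * u) ∧ IsConj a (b * u)) := by
  rw [← sq] at ha hb
  have h2 : 2 ∣ orderOf (a * b) := by
    by_contra h2
    obtain ⟨j, hj⟩ := exists_conj_of_odd ha hb h2
    exact h (isConj_iff.2 ⟨_, hj⟩).symm
  obtain ⟨m, -, hm, hm1⟩ := exists_half_of_two_dvd h2
  have h1 : a⁻¹ = a := by rw [inv_eq_iff_mul_eq_one, ← sq, ha]
  have h3 : b⁻¹ = b := by rw [inv_eq_iff_mul_eq_one, ← sq, hb]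
  have hba : b * (a * b) * b⁻¹ = (a * b)⁻¹ := by
    rw [mul_inv_rev, h1, mul_assoc, mul_assoc, mul_inv_cancel, mul_one, h3]
  have e : (b * a) ^ m = (a * b) ^ m := by
    rw [show b * a = (a * b)⁻¹ by rw [mul_inv_rev, h1, h3], inv_pow, inv_eq_iff_mul_eq_one, ← sq, hm]
  obtain ⟨j, hj⟩ := exists_conj_mul_pow ha hb m
  obtain ⟨k, hk⟩ := exists_conj_mul_pow hb ha m
  rw [e] at hk
  refine ⟨(a * b) ^ m, sq (a := (a * b) ^ m) ▸ hm, hm1, commute_pow_of_inverts (conj_mul_eq_inv_of_sq ha hb) hm,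
    commute_pow_of_inverts hba hm, ?_⟩
  split_ifs at hj hk
  exacts [Or.inl ⟨isConj_iff.2 ⟨_, hj⟩, isConj_iff.2 ⟨_, hk⟩⟩, Or.inr ⟨isConj_iff.2 ⟨_, hj⟩, isConj_iff.2 ⟨_, hk⟩⟩]

theorem ty_L : ∀ c, ∃ j, L j (rep (ty c)) = c := by decide +kernel

theorem conj_sq {x y : G} (h : IsConj x y) (hx : x * x = 1) : y * y = 1 := by
  obtain ⟨g, rfl⟩ := isConj_iff.1 h
  rw [conj_mul, hx]; group

theorem Hyp.oc_bot [Finite G] (H : Hyp ψ) (h37 : IsConj (ψ (av 21)) (ψ (av 37))) {X : Subgroup G}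
    (hX : ∀ c, ψ (av c) ∈ N[X]) : oddCore X = ⊥ := by
  have := H.odd_bot h37 (O := O[X]) (odd_oc X) fun c => normalizer_le_normalizer_piCoreOf _ X (hX c)
  rwa [piCoreOf_compl_singleton, map_eq_bot_iff_of_injective _ X.subtype_injective] at this

/-- `α` is isolated in the centralizer of `u` -/
theorem Hyp.iso [Finite G] (H : Hyp ψ) (h37 : IsConj (ψ (av 21)) (ψ (av 37))) (c : Fin 64)
    (h : ∀ y, IsConj (ψ (av 21)) y → Commute (ψ (av 21)) y → Commute (ψ (av c)) y →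
      IsConj (ψ (av c) * ψ (av 21)) (ψ (av c) * y) → y = ψ (av 21)) {k : G} (hk : Commute (ψ (av c)) k) :
    Commute (ψ (av 21)) k := by
  have := zstar_center (G := C1[ψ (av c)]) (H.oc_bot h37 fun d => le_normalizer (mem_c1.2 (a_comm _ _)))
    (t := ⟨ψ (av 21), mem_c1.2 (a_comm _ _)⟩) (Subtype.ext (by rw [sq]; exact a_sq _)) fun g hg => Subtype.ext
      (h _ (isConj_iff.2 ⟨g.1, rfl⟩) (congrArg Subtype.val hg) (mem_c1.1 (g * _ * g⁻¹).2).symm
        (isConj_iff.2 ⟨g.1, by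
          change _ = _ * (g.1 * _ * g.1⁻¹)
          rw [← mul_assoc, mem_c1.1 g.2]; group⟩))
  exact (congrArg Subtype.val (mem_center_iff.1 this ⟨k, mem_c1.2 hk.symm⟩)).symm

/-- the thirty reflections -/
def R (i : Fin 30) : Wg :=
  let x : Fin 12 × Fin 12 := [(0, 2), (0, 3), (0, 4), (0, 5), (0, 6), (0, 7), (0, 8), (0, 9), (0, 10), (0, 11), (2, 4),
    (2, 5), (2, 6), (2, 7), (2, 8), (2, 9), (2, 10), (2, 11), (4, 6), (4, 7), (4, 8), (4, 9), (4, 10), (4, 11), (6, 8),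
    (6, 9), (6, 10), (6, 11), (8, 10), (8, 11)].getD i.1 (0, 0)
  rr x.1 x.2

theorem rr_R : ∀ p q, q ≠ p → q ≠ bar p → ∃ i, rr p q = R i := by decide +kernel

theorem conj_R (k : Wg) : ∃ i, k * rr 8 11 * k⁻¹ = R i := by
  rw [conj_rr]
  exact rr_R _ _ (k.1.injective.ne (by decide)) (by rw [← W_bar]; exact k.1.injective.ne (by decide))

theorem R_sq : ∀ i, R i * R i = 1 := by decide +kernel

def cm (i j : Fin 30) : Bool := tb 6345846744045685304509671440516422931913424573790241597501332131329943685147024301613875654951171881792713816037155169911962020613121255274978184353649723957562463595845546101153831043451026863653708844866421149680157988460872537862247399472211015717504302967213277315075 (30 * i.1 + j.1)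

theorem cm_iff : ∀ i j, R i * R j = R j * R i ↔ cm i j = true := by decide +kernel

/-- the classes in the symplectic case -/
def cl (t : ℕ) (c : Fin 64) : ℕ := [0, 1, 1, 2, 3, 2, 4, 2, 4, 4 - t, 3 + t].getD (ty c) 0
def rp (t k : ℕ) : Fin 64 := [0, 21, 16, 5, if t = 0 then 42 else 63].getD k 0

attribute [local irreducible] R cm

/-- the symplectic case -/
structure HA (ψ : Wg →* G) (t : ℕ) (g : G) : Prop extends Hyp ψ where
  ht : t ∈ [0, 1]
  act : Act ψ g (Fb t)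

/-- the neighbours of `α` -/
def nb (ψ : Wg →* G) (i : Fin 30) : G := ψ (av 21 * R i)

namespace HA
variable {t : ℕ} {g : G} (H : HA ψ t g)
include H

theorem h37 : IsConj (ψ (av 21)) (ψ (av 37)) := by
  have k : ∀ t ∈ [0, 1], Fb t 21 = 37 := by decide +kernel
  exact k t H.ht ▸ H.act.isConj 21

theorem rp_conj {M : Subgroup G} (h1 : ∀ w, ψ w ∈ M) (h2 : g ∈ M) (c : Fin 64) :
    ∃ n ∈ M, n * ψ (av (rp t (cl t c))) * n⁻¹ = ψ (av c) := by
  have k : ∀ t ∈ [0, 1], ∀ c, rp t (cl t c) = rep (ty c) ∨ ∃ j, ty (Fb t (L j (rp t (cl t c)))) = ty c := by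
    intro t ht c
    have k1 : ∀ t ∈ [0, 1], ∀ s < 11, rp t (cl t (rep s)) = rep s ∨ ∃ j, ty (Fb t (L j (rp t (cl t (rep s))))) = s := by
      decide +kernel
    have k2 : ∀ c, ty c < 11 ∧ ty (rep (ty c)) = ty c := by decide +kernel
    simpa only [cl, (k2 c).2] using k1 t ht _ (k2 c).1
  obtain ⟨i, hi⟩ := ty_L c
  rcases k t H.ht c with e | ⟨j, e⟩
  · exact ⟨_, h1 (nn i), by rw [act_nn, e, hi]⟩
  · obtain ⟨l, hl⟩ := ty_L (Fb t (L j (rp t (cl t c))))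
    refine ⟨ψ (nn i) * (ψ (nn l))⁻¹ * (g * ψ (nn j)), mul_mem (mul_mem (h1 _) (inv_mem (h1 _))) (mul_mem h2 (h1 _)), ?_⟩
    have := H.act.mul (act_nn j) (rp t (cl t c))
    beta_reduce at this
    rw [← hl, e, ← act_nn l] at this
    rw [← hi, ← act_nn i, hi]
    calc _ = ψ (nn i) * (ψ (nn l))⁻¹ * (g * ψ (nn j) * ψ (av (rp t (cl t c))) * (g * ψ (nn j))⁻¹) * ψ (nn l) *
        (ψ (nn i))⁻¹ := by group
      _ = _ := by rw [this]; group

theorem rpc (c : Fin 64) : IsConj (ψ (av (rp t (cl t c)))) (ψ (av c)) :=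
  let ⟨n, _, e⟩ := H.rp_conj (M := ⊤) (fun _ => trivial) trivial c; isConj_iff.2 ⟨n, e⟩

variable [Finite G]

theorem cl_cases {c d : Fin 64} (hd : d ∈ [5, 16, 21]) (h : IsConj (ψ (av d)) (ψ (av c))) :
    rp t (cl t c) = d ∨ cl t c = 4 := by
  have k : ∀ t ∈ [0, 1], ∀ c, c = 0 ∨ rp t (cl t c) ∈ [5, 16, 21] ∨ cl t c = 4 := by decide +kernel
  rcases k t H.ht c with rfl | e | e
  · rw [av_zero, map_one, isConj_one_left] at h
    exact absurd h (H.a_ne fun e => by simp [e] at hd)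
  exacts [Or.inl (H.not_conj e hd ((H.rpc c).trans h.symm)), Or.inr e]

theorem cl_one {c : Fin 64} (h : IsConj (ψ (av 21)) (ψ (av c))) : cl t c = 1 := by
  have k : ∀ t ∈ [0, 1], ∀ c, ∀ s ∈ [1, 2, 3], rp t (cl t c) = rp t s → cl t c = s := by decide +kernel
  refine (H.cl_cases (by decide) h).elim (k t H.ht c 1 (by decide)) fun e => ?_
  have h1 : ∀ c, cl t c = 4 → IsConj (ψ (av 21)) (ψ (av c)) := fun d hd =>
    (h.trans (e ▸ H.rpc c).symm).trans (hd ▸ H.rpc d)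
  have k4 : ∀ t ∈ [0, 1], cl t (rp t 4) = 4 ∧ rp t 4 ≠ 21 := by decide +kernel
  obtain ⟨n, f, hf, e1⟩ := H.fus (h1 _ (k4 t H.ht).1)
  have h2 : ∀ s ∈ [2, 3], ∀ c, cl t c = s → cl t (f c) = s := fun s hs c hc => by
    have k2 : ∀ t ∈ [0, 1], ∀ s ∈ [2, 3], rp t s ∈ [5, 16, 21] ∧ rp t s ≠ 21 := by decide +kernel
    have h3 := (hc ▸ H.rpc c).trans (hf.isConj c)
    refine (H.cl_cases (k2 t H.ht s hs).1 h3).elim (k t H.ht _ s (List.mem_cons_of_mem _ hs)) fun e => ?_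
    exact absurd (H.not_conj (k2 t H.ht s hs).1 (by decide) (h3.trans (h1 _ e).symm)) (k2 t H.ht s hs).2
  have h3 : ∀ z ∈ ([1, 4, 16] : List (Fin 64)), f z ∈ [1, 4, 16] := fun z hz => by
    have k1 : ∀ t ∈ [0, 1], ∀ z ∈ ([1, 4, 16] : List (Fin 64)), cl t z = 2 ∧ cl t (21 ^^^ z) = 3 := by decide +kernel
    have k2 : ∀ t ∈ [0, 1], ∀ x, cl t x = 2 → cl t (rp t 4 ^^^ x) = 3 → x ∈ [1, 4, 16] := by decide +kernel
    exact k2 t H.ht _ (h2 2 (by decide) _ (k1 t H.ht z hz).1)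
      (e1 ▸ H.add hf _ _ ▸ h2 3 (by decide) _ (k1 t H.ht z hz).2)
  have k5 : ∀ a ∈ ([1, 4, 16] : List (Fin 64)), ∀ b ∈ ([1, 4, 16] : List (Fin 64)), ∀ c ∈ ([1, 4, 16] : List (Fin 64)),
    a ≠ b → a ≠ c → b ≠ c → a ^^^ b ^^^ c = 21 := by decide +kernel
  have := k5 _ (h3 1 (by decide)) _ (h3 4 (by decide)) _ (h3 16 (by decide)) ((H.finj hf).ne (by decide))
    ((H.finj hf).ne (by decide)) ((H.finj hf).ne (by decide))
  rw [← H.add hf, ← H.add hf] at this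
  exact absurd (e1.symm.trans this) (k4 t H.ht).2

theorem cl_eq {c d : Fin 64} (h : IsConj (ψ (av c)) (ψ (av d))) : cl t d = cl t c := by
  obtain ⟨n, f, hf, rfl⟩ := H.fus h
  have k1 : ∀ t ∈ [0, 1], ∀ c, cl t c = 1 → c = 21 ∨ ∃ j, c = L j (Fb t 21) := by decide +kernel
  have k2 : ∀ j c, ty (L j c) = ty c := by decide +kernel
  have k3 : ∀ t ∈ [0, 1], ∀ c, cl t (Fb t c) = cl t c := by decide +kernel
  rcases k1 t H.ht _ (H.cl_one (hf.isConj 21)) with e | ⟨j, e⟩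
  · obtain ⟨i, hi⟩ := H.stab hf e
    rw [hi, cl, k2, cl]
  · obtain ⟨f', hf', e1, e2⟩ := H.act_inv ((act_nn j).mul H.act)
    obtain ⟨i, hi⟩ := H.stab (hf'.mul hf) (by simp only [e]; exact e1 21)
    have := e2 (f c)
    simp only [hi] at this
    rw [← this, cl, k2, ← cl, k3 t H.ht, cl, k2, cl]

theorem clsY {w : Wg} (h : IsConj (ψ (av 5)) (ψ w)) : (n1 w, n2 w) ∈ [(4, 8), (0, 0)] := by
  obtain ⟨k, c, rfl⟩ := inv_A (x := w) (H.inj (by rw [map_mul, conj_sq h (a_sq _), map_one]))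
  have k1 : ∀ t ∈ [0, 1], ∀ c, cl t c = cl t 5 → (n1 (av c), n2 (av c)) ∈ [(4, 8), (0, 0)] := by decide +kernel
  rw [n1_conj, n2_conj]
  exact k1 t H.ht c (H.cl_eq (h.trans (isConj_iff.2 ⟨ψ k⁻¹, by simp [mul_assoc]⟩)))

theorem loc {y : G} (h : IsConj (ψ (av 21)) y) (hc : Commute (ψ (av 21)) y) : y = ψ (av 21) ∨ ∃ i, y = nb ψ i := by
  obtain ⟨w, rfl⟩ := H.cent y hc.symm
  obtain ⟨k, c, rfl⟩ := inv_A (x := w) (H.inj (by rw [map_mul, conj_sq h (a_sq _), map_one]))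
  have k1 : ∀ t ∈ [0, 1], ∀ c, cl t c = 1 → c = 21 ∨ ∃ j, c = L j 37 := by decide +kernel
  rcases k1 t H.ht c (H.cl_one (h.trans (isConj_iff.2 ⟨ψ k⁻¹, by simp [mul_assoc]⟩))) with rfl | ⟨j, rfl⟩
  · exact Or.inl (by rw [al_comm, mul_inv_cancel_right])
  · obtain ⟨i, hi⟩ := conj_R (k * nn j)
    refine Or.inr ⟨i, congrArg ψ ?_⟩
    rw [← hi, ← nn_av, show av 37 = av 21 * rr 8 11 by decide +kernel, ← mul_assoc (av 21), ← mul_assoc (av 21),
      ← al_comm (k * nn j)]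
    group

omit [Finite G] in
theorem nb_D (i : Fin 30) : IsConj (ψ (av 21)) (nb ψ i) := by
  obtain ⟨k, c, e⟩ := inv_A (x := av 21 * R i) (by
    rw [mul_assoc, ← mul_assoc (R i), al_comm, mul_assoc, R_sq, mul_one, av_sq])
  have k1 : ∀ i, n1 (av 21 * R i) = 0 ∧ n2 (av 21 * R i) = 8 := by decide +kernel
  have k2 : ∀ c, n1 (av c) = 0 ∧ n2 (av c) = 8 → rep (ty c) = 37 := by decide +kernel
  have := k1 i
  rw [e, n1_conj, n2_conj] at this
  rw [nb, e, map_mul, map_mul, map_inv]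
  exact (H.h37.trans (k2 c this ▸ ty_conj c)).trans (isConj_iff.2 ⟨_, rfl⟩)

theorem cent_le {s : ℕ} (hs : s ∈ [1, 2, 4]) {k : G} (hk : Commute (ψ (av (rp t s))) k) : Commute (ψ (av 21)) k := by
  have k1 : ∀ t ∈ [0, 1], ∀ s ∈ [1, 2, 4], rp t s = 21 ∨ rp t (cl t (rp t s ^^^ 21)) = 5 ∧ rp t s ∈ [16, 42, 63] := by
    decide +kernel
  have k2 : ∀ c ∈ ([16, 42, 63] : List (Fin 64)), ∀ i, av c * R i = R i * av c →
    (n1 (av c * (av 21 * R i)), n2 (av c * (av 21 * R i))) ∉ [(4, 8), (0, 0)] := by decide +kernel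
  rcases k1 t H.ht s hs with e | ⟨e, e'⟩
  · exact e ▸ hk
  refine H.iso H.h37 _ (fun y h1 h2 h3 h4 => (H.loc h1 h2).resolve_right ?_) hk
  rintro ⟨i, rfl⟩
  rw [a_mul, nb, ← map_mul] at h4
  refine k2 _ e' i ?_ (H.clsY ((e ▸ H.rpc _).trans h4))
  have := H.inj ((map_mul ψ _ _).trans (h3.eq.trans (map_mul ψ _ _).symm))
  rwa [← mul_assoc, av_comm, mul_assoc, mul_assoc, mul_right_inj] at this

omit [Finite G] in
theorem nb_comm {i j : Fin 30} : Commute (nb ψ i) (nb ψ j) ↔ cm i j = true := by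
  rw [← cm_iff, commute_iff_eq, nb, nb, ← map_mul, ← map_mul, H.inj.eq_iff, mul_assoc, mul_assoc, mul_right_inj,
    ← mul_assoc, ← mul_assoc, al_comm, al_comm, mul_assoc, mul_assoc, mul_right_inj]

omit [Finite G] in
theorem nb_inj : Function.Injective (nb ψ) := fun i j e => by
  have k : ∀ i j, R i = R j → i = j := by decide +kernel
  exact k i j (mul_left_cancel (H.inj e))

omit [Finite G] in
theorem nb_ne (i : Fin 30) : nb ψ i ≠ ψ (av 21) := fun e => by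
  have k : ∀ i, R i ≠ 1 := by decide +kernel
  exact k i (mul_eq_left.1 (H.inj e))

end HA

theorem nb_al (i : Fin 30) : Commute (ψ (av 21)) (nb ψ i) := (al_comm' _).symm

/-- collinear triples -/
structure Tr (α x y z : G) : Prop where
  hx : IsConj α x
  hy : IsConj α y
  hz : IsConj α z
  xy : x ≠ y
  xz : x ≠ z
  yz : y ≠ z
  c : Commute x y
  p : ∀ w, IsConj α w → Commute x w → Commute y w → Commute z w

theorem cj (n : G) {α x : G} (h : IsConj α x) : IsConj α (n * x * n⁻¹) := h.trans (isConj_iff.2 ⟨n, rfl⟩)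

theorem cc {n x y : G} : Commute (n * x * n⁻¹) (n * y * n⁻¹) ↔ Commute x y := by
  simp only [commute_iff_eq, conj_mul, mul_left_inj, mul_right_inj]

theorem ce {n x y : G} : n * x * n⁻¹ = n * y * n⁻¹ ↔ x = y := by simp only [mul_left_inj, mul_right_inj]

theorem Tr.conj {α x y z : G} (h : Tr α x y z) (n : G) : Tr α (n * x * n⁻¹) (n * y * n⁻¹) (n * z * n⁻¹) :=
  ⟨cj n h.hx, cj n h.hy, cj n h.hz, mt ce.1 h.xy, mt ce.1 h.xz, mt ce.1 h.yz, cc.2 h.c, fun w hw h1 h2 => by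
    obtain ⟨v, rfl⟩ : ∃ v, w = n * v * n⁻¹ := ⟨n⁻¹ * w * n, by group⟩
    exact cc.2 (h.p v (hw.trans (isConj_iff.2 ⟨n, rfl⟩).symm) (cc.1 h1) (cc.1 h2))⟩

theorem Tr.swap {α x y z : G} (h : Tr α x y z) : Tr α y x z :=
  ⟨h.hy, h.hx, h.hz, h.xy.symm, h.yz, h.xz, h.c.symm, fun w a b c => h.p w a c b⟩

theorem Tr.cx {α x y z : G} (h : Tr α x y z) : Commute z x := h.p x h.hx (.refl _) h.c.symm
theorem Tr.cy {α x y z : G} (h : Tr α x y z) : Commute z y := h.swap.cx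

/-- reduction to the base point -/
theorem wlog_base {α : G} {P : G → G → G → G → G → Prop}
    (hP : ∀ n a b c d e, P (n * a * n⁻¹) (n * b * n⁻¹) (n * c * n⁻¹) (n * d * n⁻¹) (n * e * n⁻¹) → P a b c d e)
    (h : ∀ b c d e, P α b c d e) {a : G} (ha : IsConj α a) (b c d e : G) : P a b c d e := by
  obtain ⟨n, hn⟩ := isConj_iff.1 ha.symm
  exact hP n _ _ _ _ _ (hn ▸ h _ _ _ _)

def op (i : Fin 30) : Fin 30 := ⟨i.1 ^^^ 1 % 30, by revert i; decide⟩

namespace HA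
variable {t : ℕ} {g : G} (H : HA ψ t g) [Finite G]
include H

theorem tr_nb (i : Fin 30) : Tr (ψ (av 21)) (ψ (av 21)) (nb ψ i) (nb ψ (op i)) := by
  have k : ∀ i, i ≠ op i ∧ ∀ j, cm i j = true → cm (op i) j = true := by decide +kernel
  refine ⟨.refl _, H.nb_D _, H.nb_D _, (H.nb_ne _).symm, (H.nb_ne _).symm, H.nb_inj.ne (k i).1, nb_al _,
    fun w h1 h2 h3 => ?_⟩
  rcases H.loc h1 h2 with rfl | ⟨j, rfl⟩
  exacts [(nb_al _).symm, H.nb_comm.2 ((k i).2 j (H.nb_comm.1 h3))]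

theorem tr_base {y z : G} (h : Tr (ψ (av 21)) (ψ (av 21)) y z) : ∃ i, y = nb ψ i ∧ z = nb ψ (op i) := by
  obtain ⟨i, rfl⟩ := (H.loc h.hy h.c).resolve_left h.xy.symm
  obtain ⟨j, rfl⟩ := (H.loc h.hz h.cx.symm).resolve_left h.xz.symm
  have k : ∀ i j, i ≠ j → (∀ k, cm i k = true → cm j k = true) → j = op i := by decide +kernel
  exact ⟨i, rfl, congrArg _ (k i j (fun e => h.yz (e ▸ rfl)) fun k hk =>
    H.nb_comm.1 (h.p _ (H.nb_D _) (nb_al _) (H.nb_comm.2 hk)))⟩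

theorem tr_rot {x y z : G} (h : Tr (ψ (av 21)) x y z) : Tr (ψ (av 21)) x z y := by
  obtain ⟨n, rfl⟩ := isConj_iff.1 h.hx
  have h1 := h.conj n⁻¹
  rw [show n⁻¹ * (n * ψ (av 21) * n⁻¹) * n⁻¹⁻¹ = ψ (av 21) by group] at h1
  obtain ⟨i, e1, e2⟩ := H.tr_base h1
  have k : ∀ i, op (op i) = i := by decide +kernel
  have := (H.tr_nb (op i)).conj n
  rw [k, ← e1, ← e2] at this
  simpa [mul_assoc] using this

theorem tr_uniq {x y z w : G} (h : Tr (ψ (av 21)) x y z) (h' : Tr (ψ (av 21)) x y w) : z = w := by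
  obtain ⟨n, hn⟩ := isConj_iff.1 h.hx.symm
  obtain ⟨i, e1, e2⟩ := H.tr_base (hn ▸ h.conj n)
  obtain ⟨j, e3, e4⟩ := H.tr_base (hn ▸ h'.conj n)
  rw [← H.nb_inj (e1.symm.trans e3), ← e2] at e4
  exact (ce.1 e4).symm

theorem tr_ex {x y : G} (hx : IsConj (ψ (av 21)) x) (hy : IsConj (ψ (av 21)) y) (h : x ≠ y) (hc : Commute x y) :
    ∃ z, Tr (ψ (av 21)) x y z := by
  obtain ⟨n, rfl⟩ := isConj_iff.1 hx
  obtain ⟨i, e⟩ := (H.loc (cj n⁻¹ hy) (cc.1 (by simpa [mul_assoc] using hc : Commute (n * _ * n⁻¹) (n * _ * n⁻¹)))).resolve_left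
    fun e => h (by rw [← e]; group)
  have := (H.tr_nb i).conj n
  rw [← e] at this
  exact ⟨_, by simpa [mul_assoc] using this⟩

/-- lines in a plane -/
theorem plane {x u y a b : G} (hx : IsConj (ψ (av 21)) x) : IsConj (ψ (av 21)) y → Commute x u → Commute x y →
    Commute x a → Tr (ψ (av 21)) u a b → ¬ Commute u y → Commute a y ∨ Commute b y := by
  refine wlog_base (P := fun x u y a b => IsConj (ψ (av 21)) y → Commute x u → Commute x y →
    Commute x a → Tr (ψ (av 21)) u a b → ¬ Commute u y → Commute a y ∨ Commute b y) ?_ ?_ hx u y a b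
  · intro n x u y a b h h1 h2 h3 h4 h5 h6
    simpa only [cc] using h (cj n h1) (cc.2 h2) (cc.2 h3) (cc.2 h4) (h5.conj n) (mt cc.1 h6)
  intro u y a b h1 h2 h3 h4 h5 h6
  obtain ⟨i, rfl⟩ := (H.loc h5.hx h2).resolve_left fun e => h6 (e ▸ h3)
  obtain ⟨j, rfl⟩ := (H.loc h1 h3).resolve_left fun e => h6 (e ▸ h2.symm)
  by_cases ha : a = ψ (av 21)
  · exact Or.inl (ha ▸ h3)
  by_cases hb : b = ψ (av 21)
  · exact Or.inr (hb ▸ h3)
  obtain ⟨k, rfl⟩ := (H.loc h5.hy h4).resolve_left ha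
  obtain ⟨l, rfl⟩ := (H.loc h5.hz (h5.p _ (.refl _) h2.symm h4.symm).symm).resolve_left hb
  have k1 : ∀ i k, cm i k = true → i ≠ k → k ≠ op i → ∀ l, cm l i = true → cm l k = true → i ≠ l → k ≠ l → l ≠ op i →
    l ≠ op k → ∀ j, ¬ cm i j = true → cm k j = true ∨ cm l j = true := by decide +kernel
  have h7 : ∀ i, Tr (ψ (av 21)) (nb ψ i) (nb ψ (op i)) (ψ (av 21)) := fun i => H.tr_rot (H.tr_nb i).swap
  simp only [H.nb_comm] at h6 ⊢
  exact k1 i k (H.nb_comm.1 h5.c) (fun e => h5.xy (e ▸ rfl)) (fun e => hb (H.tr_uniq h5 (e ▸ h7 i))) l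
    (H.nb_comm.1 h5.cx) (H.nb_comm.1 h5.cy) (fun e => h5.xz (e ▸ rfl)) (fun e => h5.yz (e ▸ rfl))
    (fun e => ha (H.tr_uniq (H.tr_rot h5) (e ▸ h7 i))) (fun e => H.nb_ne i (H.tr_uniq (H.tr_rot h5.swap) (e ▸ h7 k))) j h6

/-- a point at distance two is collinear with a point of each line -/
theorem meet {u x y a b : G} (hu : IsConj (ψ (av 21)) u) : IsConj (ψ (av 21)) x → IsConj (ψ (av 21)) y → Commute x u →
    Commute x y → Tr (ψ (av 21)) u a b → ¬ Commute u y → Commute a y ∨ Commute b y := by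
  refine wlog_base (P := fun u x y a b => IsConj (ψ (av 21)) x → IsConj (ψ (av 21)) y → Commute x u →
    Commute x y → Tr (ψ (av 21)) u a b → ¬ Commute u y → Commute a y ∨ Commute b y) ?_ ?_ hu x y a b
  · intro n u x y a b h h0 h1 h2 h3 h5 h6
    simpa only [cc] using h (cj n h0) (cj n h1) (cc.2 h2) (cc.2 h3) (h5.conj n) (mt cc.1 h6)
  intro x y a b h0 h1 h2 h3 h5 h6
  obtain ⟨i, rfl⟩ := (H.loc h0 h2.symm).resolve_left fun e => h6 (e ▸ h3)
  obtain ⟨k, rfl, rfl⟩ := H.tr_base h5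
  have k1 : ∀ i k, ∃ m, cm i m = true ∧ cm m k = true ∧ cm (op m) k = true := by decide +kernel
  obtain ⟨m, a1, a2, a3⟩ := k1 i k
  have h7 := fun i k h a => H.plane (H.nb_D i) h1 (nb_al i).symm h (H.nb_comm.2 a) (H.tr_nb k) h6
  exact (h7 i m h3 a1).elim (fun h => h7 m k h a2) fun h => h7 _ k h a3

theorem closed {u x y z : G} (hu : IsConj (ψ (av 21)) u) (hx : IsConj (ψ (av 21)) x) (hy : IsConj (ψ (av 21)) y)
    (hz : IsConj (ψ (av 21)) z) (h1 : Commute x u) (h2 : Commute x y) (h3 : Commute y z) :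
    ∃ w, IsConj (ψ (av 21)) w ∧ Commute w u ∧ Commute w z := by
  by_cases h4 : Commute y u
  · exact ⟨y, hy, h4, h3⟩
  by_cases h5 : y = z
  · exact ⟨x, hx, h1, h5 ▸ h2⟩
  obtain ⟨w, hw⟩ := H.tr_ex hy hz h5 h3
  exact (H.meet hy hx hu h2 h1 hw h4).elim (fun h => ⟨z, hz, h, .refl _⟩) fun h => ⟨w, hw.hz, h, hw.cy⟩

/-- the commuting graph has diameter two -/
theorem diam {u y : G} (hu : IsConj (ψ (av 21)) u) (hy : IsConj (ψ (av 21)) y) :
    ∃ w, IsConj (ψ (av 21)) w ∧ Commute w u ∧ Commute w y := by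
  suffices h : ∀ y, IsConj (ψ (av 21)) y → ∃ w, IsConj (ψ (av 21)) w ∧ Commute w (ψ (av 21)) ∧ Commute w y by
    obtain ⟨n, rfl⟩ := isConj_iff.1 hu
    obtain ⟨w, a, b, c⟩ := h _ (cj n⁻¹ hy)
    exact ⟨_, cj n a, cc.2 b, by simpa [mul_assoc] using (cc (n := n)).2 c⟩
  let Δ : G → Prop := fun y => ∃ w, IsConj (ψ (av 21)) w ∧ Commute w (ψ (av 21)) ∧ Commute w y
  have h1 : ∀ n y, IsConj (ψ (av 21)) y → Δ (n * ψ (av 21) * n⁻¹) → Δ y → Δ (n * y * n⁻¹) := by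
    rintro n y hy ⟨a, a1, a2, a3⟩ ⟨b, b1, b2, b3⟩
    obtain ⟨c, c1, c2, c3⟩ := H.closed (.refl _) a1 (cj n (.refl _)) (cj n b1) a2 a3 (cc.2 b2.symm)
    exact H.closed (.refl _) c1 (cj n b1) (cj n hy) c2 c3 (cc.2 b3)
  have h0 : ∀ y, Commute (ψ (av 21)) y → Δ y := fun y h => ⟨_, .refl _, .refl _, h⟩
  let M : Subgroup G := TwoS.subOf {n | Δ (n * ψ (av 21) * n⁻¹)} (h0 _ (by simp)) fun n hn m hm => by
    have := h1 n _ (cj m (.refl _)) hn hm
    simpa [mul_assoc] using this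
  have hW : ∀ w, ψ w ∈ M := fun w => h0 _ (by rw [al_comm', mul_inv_cancel_right])
  have hg : g ∈ M := h0 _ (by rw [H.act]; exact a_comm _ _)
  have h5 : ∀ y, IsConj (ψ (av 21)) y → ¬ Δ y → Commute (ψ (av 5)) y := fun y hy hn => by
    obtain ⟨u, u1, u2, u3, u4, u5⟩ := dih (a_sq 16) (conj_sq hy (a_sq _)) fun h =>
      absurd (H.not_conj (c := 16) (d := 21) (by decide) (by decide) (h.trans hy.symm)) (by decide)
    obtain ⟨w, rfl⟩ := H.cent u (H.cent_le (s := 2) (by decide) u3).symm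
    obtain ⟨k, c, rfl⟩ := inv_A (x := w) (H.inj (by rw [map_mul, u1, map_one]))
    obtain ⟨n, hn', e⟩ := H.rp_conj hW hg c
    have k1 : ∀ t ∈ [0, 1], ∀ c, c = 0 ∨ cl t c ∈ [1, 2, 4] ∨ rp t (cl t c) = 5 := by decide +kernel
    have e2 : ψ (k * av c * k⁻¹) = ψ k * n * ψ (av (rp t (cl t c))) * (ψ k * n)⁻¹ := by
      rw [map_mul, map_mul, map_inv, ← e]; group
    rcases k1 t H.ht c with rfl | e1 | e1
    · exact absurd (by simp [av_zero]) u2
    · have := h1 _ _ (cj _ hy) (mul_mem (hW k) hn') (h0 ((ψ k * n)⁻¹ * y * (ψ k * n)⁻¹⁻¹) (H.cent_le e1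
        ((cc (n := ψ k * n)).1 (by rw [← e2]; simpa [mul_assoc] using u4.symm))))
      exact absurd (by simpa [mul_assoc] using this) hn
    have hY : IsConj (ψ (av 5)) (ψ (k * av c * k⁻¹)) := by rw [e2, e1]; exact cj _ (.refl _)
    generalize k * av c * k⁻¹ = w at *
    rcases u5 with ⟨-, h⟩ | ⟨h, -⟩
    · exfalso
      obtain ⟨m, hm⟩ := isConj_iff.1 hy.symm
      obtain ⟨v, hv⟩ := H.cent (m * ψ w * m⁻¹) (hm ▸ cc.2 u4.symm)
      have k2 : ∀ i, (n1 (R i), n2 (R i)) ∉ [(4, 8), (0, 0)] := by decide +kernel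
      rcases H.loc (cj m (hy.trans h)) (hm ▸ cc.2 ((Commute.refl y).mul_right u4)) with e | ⟨i, e⟩ <;>
        rw [← conj_mul, hm, ← hv] at e
      · exact u2 (conj_eq_one_iff.1 (hv ▸ mul_eq_left.1 e))
      · rw [nb, map_mul, mul_right_inj] at e
        exact k2 i (H.clsY (e ▸ hv ▸ cj m hY))
    · have k2 : ∀ i, av 16 * R i = R i * av 16 →
        (n1 (av 16 * (av 21 * R i)), n2 (av 16 * (av 21 * R i))) ∉ [(4, 8), (0, 0)] := by decide +kernel
      rcases H.loc (hy.trans h) (by rw [← map_mul]; exact (al_comm' _).symm) with e | ⟨i, e⟩ <;>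
        rw [← eq_inv_mul_iff_mul_eq, a_inv] at e
      · rw [e, a_mul] at u4; exact u4.symm
      · rw [nb, ← map_mul] at e
        refine absurd (H.clsY (e ▸ hY)) (k2 i ?_)
        have := H.inj ((map_mul ψ _ _).trans ((e ▸ u3).eq.trans (map_mul ψ _ _).symm))
        rwa [mul_assoc, mul_right_inj, ← mul_assoc, av_comm, mul_assoc, mul_assoc, mul_right_inj] at this
  intro y hy
  by_contra hn
  have h6 : ∀ w, Commute (ψ (w * av 5 * w⁻¹)) y := fun w => by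
    have := (cc (n := ψ w)).2 (h5 _ (cj (ψ w)⁻¹ hy) fun h => hn (by
      have := h1 _ _ (cj (ψ w)⁻¹ hy) (hW w) h
      rwa [show ψ w * ((ψ w)⁻¹ * y * (ψ w)⁻¹⁻¹) * (ψ w)⁻¹ = y by group] at this))
    simpa [mul_assoc] using this
  refine hn (h0 y ?_)
  rw [show av 21 = 1 * av 5 * 1⁻¹ * (rr 6 8 * av 5 * (rr 6 8)⁻¹) * (rr 6 10 * av 5 * (rr 6 10)⁻¹) by decide +kernel,
    map_mul, map_mul ψ (1 * _ * _)]
  exact ((h6 _).mul_left (h6 _)).mul_left (h6 _)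

end HA
end Cfsg.Lib.D6
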