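import Cfsg.Agent.Lib.D6.SpA
import Cfsg.Agent.Lib.InvChar.PSp43Perm

/-!
# The symplectic case: identification with `Sp₆(2)`
-/

set_option autoImplicit false
set_option synthInstance.maxSize 8000
set_option maxRecDepth 100000

namespace Cfsg.Lib.D6
open Equiv Subgroup Cfsg.Lib.PC Cfsg.Lib.FT Cfsg.Lib.GW Matrix

attribute [local irreducible] av nn rr ee L ty lab R cm

variable {G : Type*} [Group G] {ψ : Wg →* G}

abbrev Sp62 : Type := symplecticGroup (Fin 3) (ZMod 2)
abbrev I6 : Type := Fin 3 ⊕ Fin 3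

instance actSp62 : MulAction Sp62 (I6 → ZMod 2) where
  smul A v := A.1 *ᵥ v
  one_smul v := one_mulVec v
  mul_smul A B v := (mulVec_mulVec v A.1 B.1).symm

def om6 (v w : I6 → ZMod 2) : ZMod 2 := v ⬝ᵥ (J (Fin 3) (ZMod 2) *ᵥ w)

theorem om6_smul (A : Sp62) (v w : I6 → ZMod 2) : om6 (A • v) (A • w) = om6 v w := by
  change (A.1 *ᵥ v) ⬝ᵥ (J (Fin 3) (ZMod 2) *ᵥ (A.1 *ᵥ w)) = _
  rw [mulVec_mulVec, ← vecMul_transpose, ← dotProduct_mulVec, mulVec_mulVec, ← Matrix.mul_assoc,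
    SymplecticGroup.mem_iff'.mp A.2]
  rfl

theorem card_Sp62_le : Nat.card Sp62 ≤ 63 * 23040 := by
  let e : ℕ → I6 → ZMod 2 := fun i => Pi.single ([.inl 0, .inr 0, .inl 1, .inr 1, .inl 2, .inr 2].getD i (.inl 0)) 1
  let S : ℕ → Subgroup Sp62 := fun n => ⨅ i < n, MulAction.stabilizer Sp62 (e i)
  let X : ℕ → Finset (I6 → ZMod 2) := fun n => Finset.univ.filter fun v => v ≠ 0 ∧ ∀ i < n, om6 (e i) v = om6 (e i) (e n)
  have h : ∀ n, Nat.card (S n) ≤ (X n).card * Nat.card (S (n + 1)) := fun n => by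
    have := IC.card_le_mul_stabilizer (S n) (e n) (X n) fun g hg => Finset.mem_filter.2 ⟨Finset.mem_univ _,
      fun h => by
        have := congrArg (g⁻¹ • ·) h
        simp only [inv_smul_smul] at this
        exact absurd (this.trans (mulVec_zero _)) (by simp [e]), fun i hi => by
        rw [← om6_smul g _ (e n), show g • e i = e i from mem_iInf.1 (mem_iInf.1 hg i) hi]⟩
    refine this.trans (le_of_eq ?_)
    congr 3
    ext g
    simp only [S, mem_inf, mem_iInf, Nat.forall_lt_succ_right]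
  have h6 : S 6 = ⊥ := eq_bot_iff.2 fun g hg => Subtype.ext (Matrix.ext fun i j => by
    have k : ∀ j : I6, ∃ n < 6, e n = Pi.single j 1 := by decide +kernel
    obtain ⟨n, hn, e1⟩ := k j
    have := congrFun (show g.1 *ᵥ e n = e n from mem_iInf.1 (mem_iInf.1 hg n) hn) i
    simp only [e1, mulVec_single_one, col_apply] at this
    rw [this, Pi.single_apply]
    rfl)
  have h0 : S 0 = ⊤ := by simp [S]
  have a0 := h 0; have a1 := h 1; have a2 := h 2; have a3 := h 3; have a4 := h 4; have a5 := h 5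
  rw [h0, card_top, show (X 0).card = 63 by decide +kernel] at a0
  rw [show (X 1).card = 32 by decide +kernel] at a1
  rw [show (X 2).card = 15 by decide +kernel] at a2
  rw [show (X 3).card = 8 by decide +kernel] at a3
  rw [show (X 4).card = 3 by decide +kernel] at a4
  rw [h6, card_bot, show (X 5).card = 2 by decide +kernel] at a5
  simp only [Nat.reduceAdd] at *
  omega

open Classical in
/-- the form -/
noncomputable def fm (a y : G) : ZMod 2 := if Commute a y then 0 else 1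

theorem fm_symm (a y : G) : fm a y = fm y a := by rw [fm, fm, Commute.symm_iff]
theorem fm_conj (n a y : G) : fm (n * a * n⁻¹) (n * y * n⁻¹) = fm a y := by rw [fm, fm, cc]

theorem ncard_cj (n α a b : G) (p : Prop → Prop) :
    {y | IsConj α y ∧ Commute (n * a * n⁻¹) y ∧ p (Commute (n * b * n⁻¹) y)}.ncard =
      {y | IsConj α y ∧ Commute a y ∧ p (Commute b y)}.ncard := by
  refine (Set.ncard_congr (fun y _ => n * y * n⁻¹) (fun y hy => And.intro (cj n hy.1)
    ⟨cc.2 hy.2.1, by rw [cc]; exact hy.2.2⟩)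
    (fun _ _ _ _ => ce.1) fun y hy => ?_).symm
  obtain ⟨v, rfl⟩ : ∃ v, y = n * v * n⁻¹ := ⟨n⁻¹ * y * n, by group⟩
  exact ⟨v, ⟨hy.1.trans (isConj_iff.2 ⟨n, rfl⟩).symm, cc.1 hy.2.1, by rw [← cc (n := n)]; exact hy.2.2⟩, rfl⟩

namespace HA
variable {t : ℕ} {g : G} (H : HA ψ t g) [Finite G]
include H

theorem ncard_base {q : G → Prop} (h : ¬ q (ψ (av 21))) :
    {y | IsConj (ψ (av 21)) y ∧ Commute (ψ (av 21)) y ∧ q y}.ncard = {i | q (nb ψ i)}.ncard := by
  rw [← Set.ncard_image_of_injective _ H.nb_inj]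
  congr 1
  ext y
  refine ⟨fun hy => ?_, by rintro ⟨i, hi, rfl⟩; exact ⟨H.nb_D i, nb_al i, hi⟩⟩
  obtain ⟨i, rfl⟩ := (H.loc hy.1 hy.2.1).resolve_left fun e => h (e ▸ hy.2.2)
  exact ⟨i, hy.2.2, rfl⟩

theorem one_of {y : G} (hy : IsConj (ψ (av 21)) y) (h : ¬ Commute (ψ (av 21)) y) (i : Fin 30) :
    Commute (nb ψ (op i)) y ↔ ¬ Commute (nb ψ i) y := by
  obtain ⟨w, a, b, c⟩ := H.diam (.refl _) hy
  exact ⟨fun h1 h2 => h ((H.tr_rot (H.tr_nb i).swap).p y hy h2 h1),
    (H.meet (.refl _) a hy b c (H.tr_nb i) h).resolve_left⟩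

theorem c15' {y : G} (hy : IsConj (ψ (av 21)) y) (h : ¬ Commute (ψ (av 21)) y) :
    {i | Commute (nb ψ i) y}.ncard = 15 := by
  have k : ∀ i, op (op i) = i := by decide +kernel
  have h1 := Set.ncard_add_ncard_compl {i | Commute (nb ψ i) y}
  have h2 : {i | Commute (nb ψ i) y}ᶜ.ncard = {i | Commute (nb ψ i) y}.ncard :=
    Set.ncard_congr (fun i _ => op i) (fun i hi => (H.one_of hy h i).2 hi)
      (fun _ _ _ _ e => Function.Involutive.injective k e) fun i hi =>
      ⟨op i, fun h1 => (H.one_of hy h i).1 h1 hi, k i⟩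
  simp only [Nat.card_eq_fintype_card, Fintype.card_fin] at h1
  omega

theorem c15 {a b : G} (ha : IsConj (ψ (av 21)) a) (hb : IsConj (ψ (av 21)) b) (h : ¬ Commute a b) :
    {y | IsConj (ψ (av 21)) y ∧ Commute a y ∧ Commute b y}.ncard = 15 := by
  obtain ⟨n, hn⟩ := isConj_iff.1 ha.symm
  have h1 : ¬ Commute (ψ (av 21)) (n * b * n⁻¹) := hn ▸ mt cc.1 h
  have := ncard_cj n (ψ (av 21)) a b id
  simp only [id, hn] at this
  rw [← this, H.ncard_base (q := fun y => Commute (n * b * n⁻¹) y) fun h => h1 h.symm, ← H.c15' (cj n hb) h1]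
  simp only [Commute.symm_iff (a := n * b * n⁻¹)]

theorem c16 {a b : G} (ha : IsConj (ψ (av 21)) a) (hb : IsConj (ψ (av 21)) b) (h : Commute a b) (hne : a ≠ b) :
    {y | IsConj (ψ (av 21)) y ∧ Commute a y ∧ ¬ Commute b y}.ncard = 16 := by
  obtain ⟨n, hn⟩ := isConj_iff.1 ha.symm
  obtain ⟨i, hi⟩ := (H.loc (cj n hb) (hn ▸ cc.2 h)).resolve_left fun e => hne (ce.1 (hn.trans e.symm))
  have := ncard_cj n (ψ (av 21)) a b Not
  rw [← this, hn, hi, H.ncard_base (q := fun y => ¬ Commute (nb ψ i) y) fun h => h (nb_al i).symm]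
  have k : ∀ i, (Finset.univ.filter fun j => ¬ cm i j = true).card = 16 := by decide +kernel
  simp only [H.nb_comm]
  rw [← k i, ← Set.ncard_coe_finset]
  congr 1
  ext; simp

theorem c31 {a : G} (ha : IsConj (ψ (av 21)) a) : {y | IsConj (ψ (av 21)) y ∧ Commute a y}.ncard = 31 := by
  obtain ⟨n, hn⟩ := isConj_iff.1 ha.symm
  have := ncard_cj n (ψ (av 21)) a a fun _ => True
  simp only [and_true, hn] at this
  rw [← this, show {y | IsConj (ψ (av 21)) y ∧ Commute (ψ (av 21)) y} = insert (ψ (av 21)) (Set.range (nb ψ)) from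
    Set.ext fun y => ⟨fun h => (H.loc h.1 h.2).imp id fun ⟨i, e⟩ => ⟨i, e.symm⟩, by
      rintro (rfl | ⟨i, rfl⟩)
      exacts [⟨.refl _, .refl _⟩, ⟨H.nb_D i, nb_al i⟩]⟩,
    Set.ncard_insert_of_notMem (by rintro ⟨i, e⟩; exact H.nb_ne i e), Set.ncard_range_of_injective H.nb_inj]
  simp

theorem c63 : {y | IsConj (ψ (av 21)) y}.ncard = 63 := by
  classical
  let Γ := {y | IsConj (ψ (av 21)) y ∧ ¬ Commute (ψ (av 21)) y}
  have h1 := Finset.card_mul_eq_card_mul (s := Finset.univ) (t := (Set.toFinite Γ).toFinset) (m := 16) (n := 15)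
    (fun i y => Commute (nb ψ i) y) (fun i _ => by
      rw [← H.c16 (H.nb_D i) (.refl _) (nb_al i).symm (H.nb_ne i), ← Set.ncard_coe_finset]
      congr 1
      ext y; simp [Γ, -isConj_iff]; tauto) fun y hy => by
      rw [Set.Finite.mem_toFinset] at hy
      rw [← H.c15' hy.1 hy.2, ← Set.ncard_coe_finset]
      congr 1
      ext; simp
  rw [← Set.ncard_eq_toFinset_card Γ, Finset.card_univ, Fintype.card_fin] at h1
  have h2 := Set.ncard_inter_add_ncard_diff_eq_ncard {y | IsConj (ψ (av 21)) y} {y | Commute (ψ (av 21)) y}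
  have h3 := H.c31 (.refl _)
  change {y | _ ∧ _}.ncard + Γ.ncard = _ at h2
  simp only [Set.mem_setOf_eq] at h2
  omega

theorem braid {a b : G} (ha : IsConj (ψ (av 21)) a) (hb : IsConj (ψ (av 21)) b) (h : ¬ Commute a b) :
    a * b * a = b * a * b := by
  obtain ⟨w, h1, h2, h3⟩ := H.diam ha hb
  obtain ⟨n, hn⟩ := isConj_iff.1 h1.symm
  obtain ⟨i, hi⟩ := (H.loc (cj n ha) (hn ▸ cc.2 h2)).resolve_left fun e => h (ce.1 (hn.trans e.symm) ▸ h3)
  obtain ⟨j, hj⟩ := (H.loc (cj n hb) (hn ▸ cc.2 h3)).resolve_left fun e => h (ce.1 (hn.trans e.symm) ▸ h2.symm)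
  have k : ∀ i j, ¬ cm i j = true →
    av 21 * R i * (av 21 * R j) * (av 21 * R i) = av 21 * R j * (av 21 * R i) * (av 21 * R j) := by decide +kernel
  have := congrArg ψ (k i j fun e => h (cc.1 (hi ▸ hj ▸ H.nb_comm.2 e)))
  rw [map_mul, map_mul, map_mul ψ (_ * _), map_mul ψ (_ * _), ← nb, ← nb, ← hi, ← hj] at this
  simpa only [conj_mul, ce] using this

theorem fm_add {a b : G} (ha : a = 1 ∨ IsConj (ψ (av 21)) a) (hb : b = 1 ∨ IsConj (ψ (av 21)) b) :
    ∃ c, (c = 1 ∨ IsConj (ψ (av 21)) c) ∧ ∀ y, IsConj (ψ (av 21)) y → fm c y = fm a y + fm b y := by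
  rcases ha with rfl | ha
  · exact ⟨b, hb, fun y _ => by simp [fm]⟩
  rcases hb with rfl | hb
  · exact ⟨a, Or.inr ha, fun y _ => by simp [fm]⟩
  by_cases h1 : a = b
  · exact ⟨1, Or.inl rfl, fun y _ => by rw [h1, CharTwo.add_self_eq_zero]; simp [fm]⟩
  have key : ∀ c y : G, (Commute a y → Commute b y → Commute c y) → (Commute a y → Commute c y → Commute b y) →
      (Commute b y → Commute c y → Commute a y) → (¬ Commute a y → Commute b y ∨ Commute c y) →
      fm c y = fm a y + fm b y := fun c y p q r s => by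
    by_cases h1 : Commute a y <;> by_cases h2 : Commute b y <;> by_cases h3 : Commute c y <;>
      simp_all [fm, CharTwo.add_self_eq_zero]
  by_cases h2 : Commute a b
  · obtain ⟨c, hc⟩ := H.tr_ex ha hb h1 h2
    refine ⟨c, Or.inr hc.hz, fun y hy => key c y (hc.p y hy) ((H.tr_rot hc).p y hy)
      ((H.tr_rot hc.swap).p y hy) fun h => ?_⟩
    obtain ⟨w, p, q, r⟩ := H.diam ha hy
    exact H.meet ha p hy q r hc h
  have a2 := conj_sq ha (a_sq _)
  have b2 := conj_sq hb (a_sq _)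
  have e1 := H.braid ha hb h2
  have hc : IsConj (ψ (av 21)) (a * b * a) := by simpa only [inv_eq_of_mul_eq_one_right a2] using cj a hb
  have p1 : ∀ y, Commute a y → Commute b y → Commute (a * b * a) y := fun y p q => (p.mul_left q).mul_left p
  have p2 : ∀ y, Commute a y → Commute (a * b * a) y → Commute b y := fun y p q => by
    have := (p.mul_left q).mul_left p
    rwa [← mul_assoc, ← mul_assoc, a2, one_mul, mul_assoc, a2, mul_one] at this
  have p3 : ∀ y, Commute b y → Commute (a * b * a) y → Commute a y := fun y p q => by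
    have := (p.mul_left q).mul_left p
    rwa [e1, ← mul_assoc, ← mul_assoc, b2, one_mul, mul_assoc, b2, mul_one] at this
  refine ⟨a * b * a, Or.inr hc, fun y hy => key _ y (p1 y) (p2 y) (p3 y) fun h => ?_⟩
  let P : G → Set G := fun x => {y | IsConj (ψ (av 21)) y ∧ Commute x y}
  have u1 := Set.ncard_union_add_ncard_inter (P a) (P b)
  have u2 := Set.ncard_union_add_ncard_inter (P a ∪ P b) (P (a * b * a))
  have u3 : P a ∩ P b = {y | IsConj (ψ (av 21)) y ∧ Commute a y ∧ Commute b y} := by ext; simp only [P]; aesop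
  have u4 : (P a ∪ P b) ∩ P (a * b * a) = P a ∩ P b := Set.ext fun y =>
    ⟨fun h => h.1.elim (fun p => ⟨p, p.1, p2 y p.2 h.2.2⟩) fun p => ⟨⟨p.1, p3 y p.2 h.2.2⟩, p⟩,
      fun h => ⟨Or.inl h.1, h.1.1, p1 y h.1.2 h.2.2⟩⟩
  rw [u4, H.c31 hc] at u2
  rw [H.c31 ha, H.c31 hb] at u1
  rw [u3, H.c15 ha hb h2] at u1 u2
  have u5 := Set.eq_of_subset_of_ncard_le (s := P a ∪ P b ∪ P (a * b * a)) (t := {y | IsConj (ψ (av 21)) y})
    (fun y h => h.elim (fun h => h.elim And.left And.left) And.left) (by rw [H.c63]; omega)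
  rcases u5.ge hy with (h | h) | h
  exacts [absurd h.2 ‹_›, Or.inl h.2, Or.inr h.2]

theorem exists_basis : ∃ b : I6 → G, (∀ i, IsConj (ψ (av 21)) (b i)) ∧ b (.inl 0) = ψ (av 21) ∧
    ∀ i j, fm (b i) (b j) = J (Fin 3) (ZMod 2) i j := by
  obtain ⟨q, hq, -, h⟩ := Set.nonempty_of_ncard_ne_zero
    ((H.c16 (H.nb_D 0) (.refl _) (nb_al 0).symm (H.nb_ne 0)).trans_ne (by decide))
  have h1 : ∀ i, ∃ j ∈ [i, op i], Commute (nb ψ j) q := fun i => by
    by_cases e : Commute (nb ψ i) q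
    exacts [⟨i, by simp, e⟩, ⟨op i, by simp, (H.one_of hq h i).2 e⟩]
  obtain ⟨a, a1, a2⟩ := h1 0
  obtain ⟨b, b1, b2⟩ := h1 10
  obtain ⟨c, c1, c2⟩ := h1 24
  obtain ⟨d, d1, d2⟩ := h1 28
  have k : ∀ a ∈ [0, op 0], ∀ b ∈ [10, op 10], ∀ c ∈ [24, op 24], ∀ d ∈ [28, op 28],
    cm a b = false ∧ cm a c = true ∧ cm a d = true ∧ cm b c = true ∧ cm b d = true ∧ cm c d = false ∧
    cm b a = false ∧ cm c a = true ∧ cm d a = true ∧ cm c b = true ∧ cm d b = true ∧ cm d c = false := by decide +kernel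
  have := k a a1 b b1 c c1 d d1
  refine ⟨Sum.elim ![ψ (av 21), nb ψ a, nb ψ c] ![q, nb ψ b, nb ψ d], ?_, rfl, ?_⟩
  · simp [Fin.forall_fin_succ, H.nb_D, hq, IsConj.refl, -isConj_iff]
  · have h' : ¬ Commute q (ψ (av 21)) := fun e => h e.symm
    simp [Fin.forall_fin_succ, fm, J, H.nb_comm, this, nb_al, (nb_al _).symm, h, h', a2, b2, c2, d2, a2.symm, b2.symm,
      c2.symm, d2.symm, Matrix.one_apply]

theorem sp : Nonempty (G ≃* PSp 3 (ZMod 2)) := by
  classical
  obtain ⟨b, hb, b0, hJ⟩ := H.exists_basis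
  have h1 : ∀ (l : I6 → ZMod 2) (s : Finset I6), ∃ a, (a = 1 ∨ IsConj (ψ (av 21)) a) ∧
      ∀ y, IsConj (ψ (av 21)) y → fm a y = ∑ j ∈ s, l j * fm (b j) y := fun l s => by
    induction s using Finset.induction_on with
    | empty => exact ⟨1, Or.inl rfl, fun y _ => by simp [fm]⟩
    | insert j s hj ih =>
      obtain ⟨a, ha, e⟩ := ih
      have k : ∀ x : ZMod 2, x = 0 ∨ x = 1 := by decide
      rcases k (l j) with h | h
      · exact ⟨a, ha, fun y hy => by rw [Finset.sum_insert hj, h, zero_mul, zero_add, e y hy]⟩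
      · obtain ⟨c, hc, e'⟩ := H.fm_add (Or.inr (hb j)) ha
        exact ⟨c, hc, fun y hy => by rw [Finset.sum_insert hj, h, one_mul, e' y hy, e y hy]⟩
  choose sp hsp esp using fun l => h1 l Finset.univ
  have h2 : ∀ l l', (∀ i, fm (sp l) (b i) = fm (sp l') (b i)) → l = l' := fun l l' h => by
    have : l ᵥ* J (Fin 3) (ZMod 2) = l' ᵥ* J (Fin 3) (ZMod 2) := funext fun i => by
      simpa only [esp _ _ (hb i), hJ, vecMul, dotProduct] using h i
    have := congrArg (· ᵥ* J (Fin 3) (ZMod 2)) this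
    simpa [vecMul_vecMul, J_squared, vecMul_neg] using this
  have h3 : Set.range sp = insert 1 {y | IsConj (ψ (av 21)) y} := Set.eq_of_subset_of_ncard_le
    (by rintro _ ⟨l, rfl⟩; exact hsp l) (by
      rw [Set.ncard_range_of_injective fun l l' e => h2 l l' fun i => by rw [e]]
      exact (Set.ncard_insert_le _ _).trans (by rw [H.c63]; simp))
  choose! la hla using fun y (hy : IsConj (ψ (av 21)) y) => h3.ge (Or.inr hy)
  have h4 : ∀ a, IsConj (ψ (av 21)) a → ∀ y, IsConj (ψ (av 21)) y → fm a y = ∑ j, la a j * fm (b j) y :=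
    fun a ha y hy => by rw [← esp _ y hy, hla a ha]
  let M : G → Matrix I6 I6 (ZMod 2) := fun n => Matrix.of fun i j => la (n * b j * n⁻¹) i
  have h5 : ∀ n a, IsConj (ψ (av 21)) a → la (n * a * n⁻¹) = M n *ᵥ la a := fun n a ha => h2 _ _ fun i => by
    rw [hla _ (cj n ha), esp _ _ (hb i), show b i = n * (n⁻¹ * b i * n⁻¹⁻¹) * n⁻¹ by group, fm_conj,
      h4 a ha _ (cj _ (hb i))]
    simp only [← fm_conj n (b _), h4 _ (cj n (hb _)) _ (cj n (cj _ (hb i))), mulVec, dotProduct, M, of_apply,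
      Finset.mul_sum, Finset.sum_mul]
    rw [Finset.sum_comm]
    exact Finset.sum_congr rfl fun _ _ => Finset.sum_congr rfl fun _ _ => by ring
  have h6 : ∀ n, M n ∈ symplecticGroup (Fin 3) (ZMod 2) := fun n => SymplecticGroup.mem_iff'.2 (Matrix.ext fun i j => by
    rw [← hJ, ← fm_conj n, h4 _ (cj n (hb i)) _ (cj n (hb j))]
    simp only [fm_symm (b _) (n * _ * _), h4 _ (cj n (hb j)) _ (hb _), mul_apply, transpose_apply, M, of_apply,
      Finset.mul_sum, Finset.sum_mul, ← hJ]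
    rw [Finset.sum_comm]
    exact Finset.sum_congr rfl fun _ _ => Finset.sum_congr rfl fun _ _ => by rw [fm_symm]; ring)
  let ρ : G →* Sp62 := MonoidHom.mk' (fun n => ⟨M n, h6 n⟩) fun n m => Subtype.ext (Matrix.ext fun i j => by
    have := congrFun (h5 n _ (cj m (hb j))) i
    rw [show n * (m * b j * m⁻¹) * n⁻¹ = n * m * b j * (n * m)⁻¹ by group] at this
    exact this)
  have h7 : ∀ n, (∀ a, IsConj (ψ (av 21)) a → n * a = a * n) → n = 1 := fun n h => by
    obtain ⟨w, rfl⟩ := H.cent n (h _ (.refl _))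
    have h8 : ∀ i, w * R i = R i * w := fun i => by
      have := H.inj ((map_mul ψ _ _).trans ((h _ (H.nb_D i)).trans (map_mul ψ _ _).symm))
      rwa [← mul_assoc, al_comm, mul_assoc, mul_assoc, mul_right_inj] at this
    have k : ∀ c, ∃ l ∈ ([1, R 0, R 1, R 0 * R 1] : List Wg), ∃ m ∈ ([1, R 18, R 19, R 18 * R 19] : List Wg),
      ∃ n ∈ ([1, R 28, R 29, R 28 * R 29] : List Wg), av c = l * m * n := by decide +kernel
    obtain ⟨c, rfl⟩ := cent_A' (x := w) fun c => by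
      obtain ⟨l, hl, m, hm, n, hn, e⟩ := k c
      have h9 : ∀ i j, ∀ l ∈ [1, R i, R j, R i * R j], Commute w l := by
        simp [show ∀ i, Commute w (R i) from h8]
      exact e ▸ ((h9 _ _ l hl).mul_right (h9 _ _ m hm)).mul_right (h9 _ _ n hn)
    have k2 : ∀ c, av c * R 10 = R 10 * av c → av c * R 24 = R 24 * av c → c = 0 ∨ c = 21 := by decide +kernel
    rcases k2 c (h8 _) (h8 _) with rfl | rfl
    · rw [av_zero, map_one]
    · have := hJ (.inl 0) (.inr 0)
      rw [b0, fm, if_pos (show Commute _ _ from h _ (hb _))] at this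
      exact absurd this (by decide)
  have h8 : Function.Injective ρ := (injective_iff_map_eq_one ρ).2 fun n hn => h7 n fun a ha => by
    rw [← mul_inv_eq_iff_eq_mul, ← hla _ (cj n ha), h5 n a ha, show M n = 1 from congrArg Subtype.val hn,
      one_mulVec, hla a ha]
  have h9 := TwoS.ncard_cl (⊤ : Subgroup G) (ψ (av 21))
  rw [show {x | ∃ g ∈ (⊤ : Subgroup G), g * ψ (av 21) * g⁻¹ = x} = {y | IsConj (ψ (av 21)) y} by ext; simp, H.c63,
    inf_top_eq, show C1[ψ (av 21)] = ψ.range from le_antisymm (fun x hx => H.cent x (mem_c1.1 hx))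
      (by rintro _ ⟨w, rfl⟩; exact mem_c1.2 (al_comm' w)), ← Nat.card_congr (MonoidHom.ofInjective H.inj).toEquiv,
    card_W, card_top] at h9
  let e := MulEquiv.ofBijective ρ (h8.bijective_of_nat_card_le (h9 ▸ card_Sp62_le))
  have h10 : center Sp62 = ⊥ := eq_bot_iff.2 fun z hz => by
    rw [mem_bot, ← e.symm.map_eq_one_iff]
    exact h7 _ fun a _ => e.injective (by simp [mem_center_iff.1 hz])
  exact ⟨e.trans ((QuotientGroup.quotientMulEquivOfEq h10).trans QuotientGroup.quotientBot).symm⟩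

end HA
end Cfsg.Lib.D6
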